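import Cfsg.Agent.Lib.FrakLModule.Module
import Cfsg.Agent.Lib.GLOrder.Basic
import Cfsg.Agent.Lib.Suzuki.Parts
import Cfsg.Agent.Lib.Suzuki.Borel
import Cfsg.Prelude.Def_Transfer

/-!
# The three kinds of quotient: order-two `Y`, `SL(2,q)`, `Sz(q)`

`Fpf p Y`: in every module split by `Y`, an element `g` of prime order other than `p` fixes
only zero.  `Uniq p Y`: `Y` is the only nontrivial elementary abelian normal subgroup of `N(Y)`.
-/

set_option autoImplicit false
set_option linter.style.haveILetI false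
set_option linter.unusedSimpArgs false

namespace Cfsg.Agent.FrakLModule

variable {H : Type*} [Group H]

/-- `Y` is the only nontrivial elementary abelian normal `p`-subgroup of its normaliser. -/
def Uniq (p : ℕ) (Y : Subgroup H) : Prop :=
  ∀ E : Subgroup H, E ≤ Subgroup.normalizer (Y : Set H) →
    Subgroup.normalizer (Y : Set H) ≤ Subgroup.normalizer (E : Set H) →
    Cfsg.IsElementaryAbelian p E → E ≠ ⊥ → E = Y

section transport

variable {K : Type*} [Group K] (e : H ≃* K) {Y : Subgroup H}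

lemma map_normalizer : (Subgroup.normalizer (Y : Set H)).map e.toMonoidHom =
    Subgroup.normalizer (Y.map e.toMonoidHom : Set K) :=
  Subgroup.map_equiv_normalizer_eq Y e

lemma OneMax.map (h : OneMax Y) : OneMax (Y.map e.toMonoidHom) where
  max X hX hne := by
    rw [← map_normalizer]
    have h1 := h.max (X.comap e.toMonoidHom) (Subgroup.map_le_iff_le_comap.mp hX) (fun ht => hne (by
      rw [← Subgroup.map_comap_eq_self_of_surjective (f := e.toMonoidHom) e.surjective X, ht,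
        Subgroup.map_top_of_surjective _ e.surjective]))
    rw [← Subgroup.map_comap_eq_self_of_surjective (f := e.toMonoidHom) e.surjective X]
    exact Subgroup.map_mono h1
  proper := by
    rw [← map_normalizer]
    intro ht
    apply h.proper
    apply Subgroup.map_injective (f := e.toMonoidHom) e.injective
    rw [ht, Subgroup.map_top_of_surjective _ e.surjective]
  gen := by
    rw [Subgroup.coe_map, ← Subgroup.map_normalClosure (Y : Set H) e.toMonoidHom e.surjective, h.gen,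
      Subgroup.map_top_of_surjective _ e.surjective]

variable {V : Type*} [AddCommGroup V] {ρ : H →* AddMonoid.End V}

lemma Halves.map (h : Halves Y ρ) : Halves (Y.map e.toMonoidHom) (ρ.comp e.symm.toMonoidHom) where
  toOneMax := h.toOneMax.map e
  fix0 v hv := h.fix0 v fun g => by simpa using hv (e g)
  span g hg v := by
    obtain ⟨x, rfl⟩ := e.surjective g
    obtain ⟨i, j, hi, hj, rfl⟩ := h.span x (fun hx => hg (by
      rw [← map_normalizer]; exact ⟨x, hx, rfl⟩)) v
    refine ⟨i, j, ?_, ?_, rfl⟩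
    · rintro _ ⟨y, hy, rfl⟩
      simpa using hi y hy
    · rintro _ ⟨_, ⟨y, hy, rfl⟩, rfl⟩
      simpa using hj (x * y * x⁻¹) ⟨y, hy, rfl⟩
  quad v y := by
    rintro ⟨z, hz, rfl⟩ _ ⟨w, hw, rfl⟩
    simpa using h.quad v z hz w hw
  faith := h.faith.comp e.symm.injective

lemma Uniq.of_map {p : ℕ} (h : Uniq p (Y.map e.toMonoidHom)) : Uniq p Y := by
  intro E hE hn hea hne
  apply Subgroup.map_injective (f := e.toMonoidHom) e.injective
  refine h _ ?_ ?_ ?_ ?_
  · rw [← map_normalizer]; exact Subgroup.map_mono hE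
  · rw [← map_normalizer, ← map_normalizer]; exact Subgroup.map_mono hn
  · refine ⟨⟨⟨?_⟩⟩, ?_⟩
    · rintro ⟨_, a, ha, rfl⟩ ⟨_, b, hb, rfl⟩
      haveI := hea.1
      refine Subtype.ext ?_
      show e a * e b = e b * e a
      rw [← map_mul, ← map_mul]
      exact congrArg e (congrArg Subtype.val (mul_comm' (⟨a, ha⟩ : E) ⟨b, hb⟩))
    · rintro _ ⟨a, ha, rfl⟩
      rw [← map_pow, hea.2 a ha, map_one]
  · exact fun h0 => hne ((Subgroup.map_eq_bot_iff_of_injective _ e.injective).mp h0)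

end transport

/-! ### `|Y| = 2` -/

section orderTwo

variable [Finite H] {Y : Subgroup H} (hY : OneMax Y) (h2 : Nat.card Y = 2)

include h2 in
lemma exists_eq_of_card_two : ∃ y : H, y ≠ 1 ∧ y * y = 1 ∧ y ∈ Y ∧ ∀ x ∈ Y, x = 1 ∨ x = y := by
  obtain ⟨y, hy, hu⟩ := (Nat.card_eq_two_iff' (1 : Y)).mp h2
  have hyy : y * y = 1 := by
    by_contra h
    have := hu _ h
    exact hy (mul_eq_left.mp this)
  refine ⟨y, fun h => hy (Subtype.ext h), congrArg Subtype.val hyy, y.2, fun x hx => ?_⟩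
  rcases eq_or_ne (⟨x, hx⟩ : Y) 1 with h | h
  · exact Or.inl (congrArg Subtype.val h)
  · exact Or.inr (congrArg Subtype.val (hu _ h))

include hY h2 in
/-- The group is dihedral on two conjugates of the involution in `Y`. -/
lemma dihedral_of_card_two :
    ∃ y ρ₀ : H, y ∈ Y ∧ y ≠ 1 ∧ y * y = 1 ∧ (∀ x ∈ Y, x = 1 ∨ x = y) ∧ y * ρ₀ * y⁻¹ = ρ₀⁻¹ ∧
      ∀ x, ∃ k : ℤ, x = ρ₀ ^ k ∨ x = ρ₀ ^ k * y := by
  obtain ⟨y, hy1, hyy, hyY, hall⟩ := exists_eq_of_card_two h2
  obtain ⟨g, hg⟩ := exists_notMem hY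
  obtain ⟨z, hz⟩ : ∃ z, z = g * y * g⁻¹ := ⟨_, rfl⟩
  have hzz : z * z = 1 := by
    rw [hz, show g * y * g⁻¹ * (g * y * g⁻¹) = g * (y * y) * g⁻¹ by group, hyy]; group
  have hyi : y⁻¹ = y := inv_eq_of_mul_eq_one_right hyy
  have hzi : z⁻¹ = z := inv_eq_of_mul_eq_one_right hzz
  obtain ⟨r, hr⟩ : ∃ r, r = z * y := ⟨_, rfl⟩
  have hc : y * r * y⁻¹ = r⁻¹ := by
    rw [hr, mul_inv_rev, hzi, hyi, mul_assoc, mul_assoc, hyy, mul_one]
  have hck : ∀ k : ℤ, y * r ^ k = r ^ (-k) * y := by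
    intro k
    rw [zpow_neg, ← inv_zpow, ← hc, conj_zpow, inv_mul_cancel_right]
  refine ⟨y, r, hyY, hy1, hyy, hall, hc, fun x => ?_⟩
  have hS : ∀ x ∈ Y ⊔ Y.map (MulAut.conj g).toMonoidHom, ∃ k : ℤ, x = r ^ k ∨ x = r ^ k * y := by
    let S : Subgroup H :=
      { carrier := {x | ∃ k : ℤ, x = r ^ k ∨ x = r ^ k * y}
        one_mem' := ⟨0, Or.inl (zpow_zero r).symm⟩
        mul_mem' := by
          rintro a b ⟨k, rfl | rfl⟩ ⟨l, rfl | rfl⟩
          · exact ⟨k + l, Or.inl (zpow_add r k l).symm⟩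
          · exact ⟨k + l, Or.inr (by rw [zpow_add, mul_assoc])⟩
          · exact ⟨k - l, Or.inr (by rw [mul_assoc, hck, ← mul_assoc, ← zpow_add, sub_eq_add_neg])⟩
          · refine ⟨k - l, Or.inl ?_⟩
            calc r ^ k * y * (r ^ l * y) = r ^ k * (y * r ^ l) * y := by group
              _ = r ^ k * r ^ (-l) * (y * y) := by rw [hck]; group
              _ = r ^ (k - l) := by rw [hyy, mul_one, ← zpow_add, sub_eq_add_neg]
        inv_mem' := by
          rintro a ⟨k, rfl | rfl⟩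
          · exact ⟨-k, Or.inl (zpow_neg r k).symm⟩
          · refine ⟨k, Or.inr ?_⟩
            rw [mul_inv_rev, hyi, ← zpow_neg, hck, neg_neg] }
    have hle : Y ⊔ Y.map (MulAut.conj g).toMonoidHom ≤ S := by
      refine sup_le ?_ ?_
      · intro x hx
        rcases hall x hx with rfl | rfl
        · exact S.one_mem
        · exact ⟨0, Or.inr (by simp)⟩
      · rintro _ ⟨x, hx, rfl⟩
        rcases hall x hx with rfl | rfl
        · simp
        · refine ⟨1, Or.inr ?_⟩
          show g * x * g⁻¹ = r ^ (1 : ℤ) * x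
          rw [← hz, zpow_one, hr, mul_assoc, hyy, mul_one]
    exact fun x hx => hle hx
  exact hS x (by rw [map_conj_sup_eq_top hY hg]; trivial)

include h2 in
theorem fpf_card_two {V : Type*} [AddCommGroup V] {ρ : H →* AddMonoid.End V} (hM : Halves Y ρ)
    (htwo : ∀ v : V, v + v = 0) {h : H} (hodd : Odd (orderOf h)) (h1 : h ≠ 1) {v : V}
    (hv : ρ h v = v) : v = 0 := by
  obtain ⟨y, r, hyY, hy1, hyy, hall, hc, hx⟩ := dihedral_of_card_two hM.toOneMax h2
  refine hM.eq_zero_of_inverted htwo (fun x hx => ?_) hodd h1 (x := 1) (t := y)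
    (by simpa using hyY) hy1 ?_ hv
  · rcases hall x hx with rfl | rfl
    · simp
    · exact hyy
  obtain ⟨k, rfl | rfl⟩ := hx h
  · rw [← conj_zpow, hc, inv_zpow]
  · exfalso
    have hsq : (r ^ k * y) * (r ^ k * y) = 1 := by
      have : y * r ^ k = (r ^ k)⁻¹ * y := by
        rw [← inv_zpow, ← hc, conj_zpow, inv_mul_cancel_right]
      calc (r ^ k * y) * (r ^ k * y) = r ^ k * (y * r ^ k) * y := by group
        _ = y * y := by rw [this]; group
        _ = 1 := hyy
    have hd : orderOf (r ^ k * y) ∣ 2 := orderOf_dvd_of_pow_eq_one (by rw [pow_two, hsq])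
    exact h1 (orderOf_eq_one_iff.mp (Nat.eq_one_of_dvd_coprimes hodd.coprime_two_right dvd_rfl hd))

include hY h2 in
theorem uniq_card_two
    (hcore : ∀ M : Subgroup H, M.Normal → IsPGroup 2 M → M = ⊥) : Uniq 2 Y := by
  obtain ⟨y, r, hyY, hy1, hyy, hall, hc, hx⟩ := dihedral_of_card_two hY h2
  intro E hEN _ hea hne
  -- a central element squaring to one is trivial
  have hcent : ∀ c : H, (∀ x, c * x = x * c) → c * c = 1 → c = 1 := by
    intro c hcc hc2
    haveI : (Subgroup.zpowers c).Normal := ⟨fun n hn x => by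
      obtain ⟨k, rfl⟩ := hn
      have : x * c ^ k = c ^ k * x := (Commute.zpow_right (hcc x).symm k).eq
      exact ⟨k, by rw [this, mul_inv_cancel_right]⟩⟩
    refine Subgroup.zpowers_eq_bot.mp (hcore _ inferInstance ?_)
    refine fun n => ⟨1, ?_⟩
    obtain ⟨_, k, rfl⟩ := n
    refine Subtype.ext ?_
    show (c ^ k) ^ 2 ^ 1 = 1
    rw [pow_one, ← zpow_natCast, ← zpow_mul, mul_comm, zpow_mul, zpow_natCast, sq, hc2, one_zpow]
  have hle : E ≤ Y := by
    intro e he
    have hye : y * e = e * y := by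
      have h := (Subgroup.mem_normalizer_iff.mp (hEN he) y).mp hyY
      rcases hall _ h with h | h
      · exact absurd (conj_eq_one_iff.mp h) hy1
      · exact (mul_inv_eq_iff_eq_mul.mp h).symm
    have he2 := hea.2 e he
    rw [sq] at he2
    obtain ⟨k, rfl | rfl⟩ := hx e
    · have hcc : ∀ x, r ^ k * x = x * r ^ k := fun x => by
        obtain ⟨l, rfl | rfl⟩ := hx x
        · rw [← zpow_add, ← zpow_add, add_comm]
        · rw [← mul_assoc, ← zpow_add, mul_assoc, hye, ← mul_assoc, ← zpow_add, add_comm]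
      rw [hcent _ hcc he2]; exact Y.one_mem
    · have hye' : y * r ^ k = r ^ k * y := by
        refine mul_right_cancel (b := y) ?_
        rw [mul_assoc, hye]
      have h2' : r ^ k * r ^ k = 1 := by
        have : r ^ k * y * (r ^ k * y) = r ^ k * r ^ k := by
          rw [mul_assoc (r ^ k) y, ← mul_assoc y, hye', mul_assoc (r ^ k) y y, hyy, mul_one]
        rw [← this, he2]
      have hcc : ∀ x, r ^ k * x = x * r ^ k := fun x => by
        obtain ⟨l, rfl | rfl⟩ := hx x
        · rw [← zpow_add, ← zpow_add, add_comm]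
        · rw [← mul_assoc, ← zpow_add, mul_assoc, hye', ← mul_assoc, ← zpow_add, add_comm]
      rw [hcent _ hcc h2', one_mul]; exact hyY
  refine le_antisymm hle fun x hx' => ?_
  obtain ⟨e, he, he1⟩ := (Subgroup.bot_or_exists_ne_one E).resolve_left hne
  have hey : e = y := (hall e (hle he)).resolve_left he1
  rcases hall x hx' with rfl | rfl
  · exact E.one_mem
  · exact hey ▸ he

end orderTwo

/-! ### `SL(2, q)` -/

section sl2

open Matrix

variable (F : Type*) [Field F]

/-- An upper unipotent element. -/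
def su (a : F) : SpecialLinearGroup (Fin 2) F := ⟨!![1, a; 0, 1], by simp [Matrix.det_fin_two]⟩

/-- A lower unipotent element. -/
def sv (a : F) : SpecialLinearGroup (Fin 2) F := ⟨!![1, 0; a, 1], by simp [Matrix.det_fin_two]⟩

open Classical in
/-- The monomial element `!![0, a; -a⁻¹, 0]` (the identity for `a = 0`). -/
noncomputable def sw (a : F) : SpecialLinearGroup (Fin 2) F :=
  if ha : a = 0 then 1 else ⟨!![0, a; -a⁻¹, 0], by simp [Matrix.det_fin_two, ha]⟩

/-- The diagonal element. -/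
def st (a : Fˣ) : SpecialLinearGroup (Fin 2) F :=
  ⟨!![(a : F), 0; 0, (a⁻¹ : Fˣ)], by simp [Matrix.det_fin_two]⟩

variable {F} in
lemma coe_su (a : F) : ((su F a : SpecialLinearGroup (Fin 2) F) : Matrix (Fin 2) (Fin 2) F) = !![1, a; 0, 1] := rfl

variable {F} in
lemma coe_sv (a : F) : ((sv F a : SpecialLinearGroup (Fin 2) F) : Matrix (Fin 2) (Fin 2) F) = !![1, 0; a, 1] := rfl

variable {F} in
lemma coe_sw {a : F} (ha : a ≠ 0) :
    ((sw F a : SpecialLinearGroup (Fin 2) F) : Matrix (Fin 2) (Fin 2) F) = !![0, a; -a⁻¹, 0] := by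
  exact congrArg Subtype.val (dif_neg ha)

variable {F} in
lemma coe_st (k : Fˣ) :
    ((st F k : SpecialLinearGroup (Fin 2) F) : Matrix (Fin 2) (Fin 2) F) = !![(k : F), 0; 0, (k⁻¹ : Fˣ)] := rfl

variable {F} in
lemma val_mul (g h : SpecialLinearGroup (Fin 2) F) : (g * h).1 = g.1 * h.1 := rfl

variable {F} in
lemma val_one : (1 : SpecialLinearGroup (Fin 2) F).1 = 1 := rfl

variable {F} in
lemma val_pow (g : SpecialLinearGroup (Fin 2) F) (n : ℕ) : (g ^ n).1 = g.1 ^ n := by
  induction n with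
  | zero => rw [pow_zero, pow_zero, val_one]
  | succ n ih => rw [pow_succ, pow_succ, val_mul, ih]

/-- The upper unipotent subgroup. -/
def uGrp : Subgroup (SpecialLinearGroup (Fin 2) F) where
  carrier := Set.range (su F)
  one_mem' := ⟨0, Subtype.ext (by simp [coe_su, Matrix.one_fin_two, val_mul, val_one, SpecialLinearGroup.coe_mul, SpecialLinearGroup.coe_one])⟩
  mul_mem' := by
    rintro _ _ ⟨a, rfl⟩ ⟨b, rfl⟩
    exact ⟨a + b, Subtype.ext (by simp [coe_su, add_comm, val_mul, val_one, SpecialLinearGroup.coe_mul, SpecialLinearGroup.coe_one])⟩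
  inv_mem' := by
    rintro _ ⟨a, rfl⟩
    refine ⟨-a, Subtype.ext ?_⟩
    simp [coe_su, SpecialLinearGroup.coe_inv, Matrix.adjugate_fin_two]

variable {F}

lemma su_add (a b : F) : su F (a + b) = su F a * su F b :=
  Subtype.ext (by simp [coe_su, add_comm, val_mul, val_one, SpecialLinearGroup.coe_mul, SpecialLinearGroup.coe_one])

lemma su_zero : su F 0 = 1 := Subtype.ext (by simp [coe_su, Matrix.one_fin_two, val_mul, val_one, SpecialLinearGroup.coe_mul, SpecialLinearGroup.coe_one])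

lemma su_injective : Function.Injective (su F) := fun a b h => by
  simpa [coe_su] using congrFun (congrFun (congrArg Subtype.val h) 0) 1

lemma st_conj_su (k : Fˣ) (a : F) : st F k * su F a * (st F k)⁻¹ = su F ((k : F) ^ 2 * a) := by
  rw [mul_inv_eq_iff_eq_mul]
  refine Subtype.ext ?_
  ext i j; fin_cases i <;> fin_cases j <;> simp [coe_st, coe_su, Matrix.mul_apply, Fin.sum_univ_two, sq, val_mul, val_one, SpecialLinearGroup.coe_mul, SpecialLinearGroup.coe_one]
  field_simp

lemma lower_of_normalizer {g : SpecialLinearGroup (Fin 2) F}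
    (hg : g ∈ Subgroup.normalizer (uGrp F : Set (SpecialLinearGroup (Fin 2) F))) : g.1 1 0 = 0 := by
  obtain ⟨b, hb⟩ := (Subgroup.mem_normalizer_iff.mp hg (su F 1)).mp ⟨1, rfl⟩
  have := congrArg (fun x : SpecialLinearGroup (Fin 2) F => x.1 1 0) hb
  simp [coe_su, Matrix.SpecialLinearGroup.coe_inv, Matrix.adjugate_fin_two, Matrix.mul_apply,
    Fin.sum_univ_two, val_mul, val_one, SpecialLinearGroup.coe_mul, SpecialLinearGroup.coe_one] at this
  grind

lemma st_mem_normalizer (k : Fˣ) :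
    st F k ∈ Subgroup.normalizer (uGrp F : Set (SpecialLinearGroup (Fin 2) F)) := by
  rw [Subgroup.mem_normalizer_iff]
  intro x
  constructor
  · rintro ⟨a, rfl⟩
    exact ⟨_, (st_conj_su k a).symm⟩
  · rintro ⟨a, ha⟩
    refine ⟨((k⁻¹ : Fˣ) : F) ^ 2 * a, ?_⟩
    have h1 : x = (st F k)⁻¹ * su F a * st F k := by rw [ha]; group
    rw [h1, eq_comm, mul_assoc, inv_mul_eq_iff_eq_mul]
    have h2 := st_conj_su k (((k⁻¹ : Fˣ) : F) ^ 2 * a)
    rw [mul_inv_eq_iff_eq_mul] at h2
    rw [h2]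
    congr 2
    simp [← mul_assoc, ← mul_pow]

theorem uniq_sl2 [Fintype F] (p : ℕ) [Fact p.Prime] [CharP F p] : Uniq p (uGrp F) := by
  intro E hEN hNE hea hne
  have hle : E ≤ uGrp F := by
    intro e he
    have hc : e.1 1 0 = 0 := lower_of_normalizer (hEN he)
    have hdet : e.1 0 0 * e.1 1 1 = 1 := by
      have := e.2
      rw [Matrix.det_fin_two, hc, mul_zero, sub_zero] at this
      exact this
    have hk : ∀ n : ℕ, (e ^ n).1 1 0 = 0 ∧ (e ^ n).1 0 0 = e.1 0 0 ^ n := by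
      intro n
      induction n with
      | zero => simp
      | succ n ih =>
        simp only [pow_succ, val_mul, Matrix.mul_apply, Fin.sum_univ_two]
        simp [ih.1, ih.2, hc]
    have ha : e.1 0 0 ^ p = 1 := by
      rw [← (hk p).2, hea.2 e he]; simp
    have ha1 : e.1 0 0 = 1 := by
      have : (e.1 0 0 - 1) ^ p = 0 := by rw [sub_pow_char, ha, one_pow, sub_self]
      exact sub_eq_zero.mp (pow_eq_zero_iff (Nat.Prime.ne_zero Fact.out) |>.mp this)
    refine ⟨e.1 0 1, Subtype.ext ?_⟩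
    rw [ha1, one_mul] at hdet
    ext i j; fin_cases i <;> fin_cases j <;> simp [coe_su, hc, ha1, hdet, val_mul, val_one, SpecialLinearGroup.coe_mul, SpecialLinearGroup.coe_one]
  refine le_antisymm hle ?_
  obtain ⟨e, he, he1⟩ := (Subgroup.bot_or_exists_ne_one E).resolve_left hne
  obtain ⟨b₀, rfl⟩ := hle he
  have hb₀ : b₀ ≠ 0 := fun h => he1 (by rw [h, su_zero])
  let S : AddSubgroup F :=
    { carrier := {a | su F (a * b₀) ∈ E}
      zero_mem' := by simp [su_zero, E.one_mem]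
      add_mem' := fun {a b} ha hb => by
        simp only [Set.mem_setOf_eq, add_mul, su_add] at *; exact E.mul_mem ha hb
      neg_mem' := fun {a} ha => by
        simp only [Set.mem_setOf_eq] at *
        have : su F (-a * b₀) = (su F (a * b₀))⁻¹ := by
          rw [eq_inv_iff_mul_eq_one, ← su_add, neg_mul, neg_add_cancel, su_zero]
        rw [this]; exact E.inv_mem ha }
  have hsq : ∀ a : F, a ^ 2 ∈ S := by
    intro a
    rcases eq_or_ne a 0 with rfl | ha
    · simp
    have := (Subgroup.mem_normalizer_iff.mp (hNE (st_mem_normalizer (Units.mk0 a ha))) _).mp he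
    rw [st_conj_su] at this
    exact this
  have hall : ∀ a : F, a ∈ S := by
    intro a
    rcases (Fact.out : p.Prime).eq_two_or_odd' with rfl | hodd
    · obtain ⟨c, rfl⟩ := (bijective_frobenius F 2).2 a
      exact hsq c
    · have h2 : a + a ∈ S := by
        have := S.sub_mem (S.sub_mem (hsq (a + 1)) (hsq a)) (hsq 1)
        convert this using 1
        ring
      obtain ⟨k, hk⟩ := hodd
      have : a = (k + 1) • (a + a) := by
        rw [nsmul_eq_mul, Nat.cast_add, Nat.cast_one]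
        have hp : ((2 * k + 1 : ℕ) : F) = 0 := by rw [← hk, CharP.cast_eq_zero]
        push_cast at hp
        linear_combination -a * hp
      rw [this]
      exact S.nsmul_mem h2 _
  rintro _ ⟨a, rfl⟩
  have := hall (a / b₀)
  change su F (a / b₀ * b₀) ∈ E at this
  rwa [div_mul_cancel₀ a hb₀] at this

/-- The formula for the action in a split module. -/
theorem fpf_sl2 [Fintype F] (p : ℕ) [Fact p.Prime] [CharP F p] {V : Type*} [AddCommGroup V]
    {ρ : SpecialLinearGroup (Fin 2) F →* AddMonoid.End V} (hM : Halves (uGrp F) ρ)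
    {g : SpecialLinearGroup (Fin 2) F} (hg : g ^ p ≠ 1) {v : V} (hv : ρ g v = v) : v = 0 := by
  have hw1 : (sw F 1) ∉ Subgroup.normalizer (uGrp F : Set (SpecialLinearGroup (Fin 2) F)) := by
    intro h
    simpa [coe_sw] using lower_of_normalizer h
  -- conjugation identities
  have hwu : ∀ a b : F, a ≠ 0 → su F b * sw F a = sw F a * sv F (-b / a ^ 2) := by
    intro a b ha
    refine Subtype.ext ?_
    ext i j; fin_cases i <;> fin_cases j <;>
      simp [coe_su, coe_sv, coe_sw, ha, Matrix.mul_apply, Fin.sum_univ_two, val_mul, val_one, SpecialLinearGroup.coe_mul, SpecialLinearGroup.coe_one] <;> field_simp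
  have hwv : ∀ a b : F, a ≠ 0 → sv F b * sw F a = sw F a * su F (-b * a ^ 2) := by
    intro a b ha
    refine Subtype.ext ?_
    ext i j; fin_cases i <;> fin_cases j <;>
      simp [coe_su, coe_sv, coe_sw, ha, Matrix.mul_apply, Fin.sum_univ_two, val_mul, val_one, SpecialLinearGroup.coe_mul, SpecialLinearGroup.coe_one] <;> field_simp
  have hdec : ∀ a : F, a ≠ 0 → su F a * sv F (-a⁻¹) * su F a = sw F a := by
    intro a ha
    refine Subtype.ext ?_
    ext i j; fin_cases i <;> fin_cases j <;>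
      simp [coe_su, coe_sv, coe_sw, ha, Matrix.mul_apply, Fin.sum_univ_two, val_mul, val_one, SpecialLinearGroup.coe_mul, SpecialLinearGroup.coe_one]
  have htw : ∀ a : Fˣ, sw F a * sw F (-1) = st F a := by
    intro a
    refine Subtype.ext ?_
    ext i j; fin_cases i <;> fin_cases j <;>
      simp [coe_st, coe_sw, Matrix.mul_apply, Fin.sum_univ_two, val_mul, val_one, SpecialLinearGroup.coe_mul, SpecialLinearGroup.coe_one]
  have hst : ∀ a b : Fˣ, st F a * st F b = st F (a * b) := by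
    intro a b
    refine Subtype.ext ?_
    ext i j; fin_cases i <;> fin_cases j <;>
      simp [coe_st, Matrix.mul_apply, Fin.sum_univ_two, mul_comm, val_mul, val_one, SpecialLinearGroup.coe_mul, SpecialLinearGroup.coe_one]
  have hu : ∀ {i : V}, (∀ b, ρ (su F b) i = i) ↔ Fixes ρ (uGrp F) i :=
    fun {i} => ⟨fun h => by rintro _ ⟨b, rfl⟩; exact h b, fun h b => h _ ⟨b, rfl⟩⟩
  -- the second half: fixed by the lower unipotent elements
  have hzero : ∀ x : V, (∀ b, ρ (su F b) x = x) → (∀ b, ρ (sv F b) x = x) → x = 0 := by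
    intro x h1 h2
    refine hM.eq_zero_of_fixes hw1 (hu.mp h1) ?_
    rintro _ ⟨_, ⟨b, rfl⟩, rfl⟩
    have h' : sw F 1 * su F b * (sw F 1)⁻¹ = sv F (-b) := by
      rw [mul_inv_eq_iff_eq_mul, hwv 1 (-b) one_ne_zero]; simp
    show ρ (sw F 1 * su F b * (sw F 1)⁻¹) x = x
    rw [h']; exact h2 _
  have hswu : ∀ a : F, a ≠ 0 → ∀ i, (∀ b, ρ (su F b) i = i) → ∀ b, ρ (sv F b) (ρ (sw F a) i) = ρ (sw F a) i := by
    intro a ha i hi b
    rw [rho_comp, hwv a b ha, ← rho_comp, hi]
  have hswv : ∀ a : F, a ≠ 0 → ∀ j, (∀ b, ρ (sv F b) j = j) → ∀ b, ρ (su F b) (ρ (sw F a) j) = ρ (sw F a) j := by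
    intro a ha j hj b
    rw [rho_comp, hwu a b ha, ← rho_comp, hj]
  have hlam : ∀ (a : F) (x : V), ∀ b, ρ (su F b) (ρ (su F a) x - x) = ρ (su F a) x - x :=
    fun a x b => hM.quad x _ ⟨a, rfl⟩ _ ⟨b, rfl⟩
  have hvu : ∀ a : F, sv F a = sw F (-1) * su F (-a) * (sw F (-1))⁻¹ := by
    intro a
    rw [eq_mul_inv_iff_mul_eq, hwv (-1) a (by simp)]
    simp
  have hmu : ∀ (a : F) (x : V), ∀ b, ρ (sv F b) (ρ (sv F a) x - x) = ρ (sv F a) x - x := by
    intro a x b
    obtain ⟨x', rfl⟩ : ∃ x', x = ρ (sw F (-1)) x' :=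
      ⟨ρ (sw F (-1))⁻¹ x, by rw [rho_comp, mul_inv_cancel, rho_one]⟩
    rw [rho_comp _ (sv F a), hvu a, inv_mul_cancel_right, ← rho_comp, ← map_sub]
    exact hswu (-1) (by simp) _ (hlam (-a) x') b
  -- action of the monomial elements on the halves
  have hwi : ∀ a : F, a ≠ 0 → ∀ i, (∀ b, ρ (su F b) i = i) →
      ρ (sw F a) i = ρ (sv F (-a⁻¹)) i - i := by
    intro a ha i hi
    obtain ⟨μ, hμ⟩ : ∃ μ, μ = ρ (sv F (-a⁻¹)) i - i := ⟨_, rfl⟩
    have hμv : ∀ b, ρ (sv F b) μ = μ := hμ ▸ hmu _ i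
    have h1 : ρ (sw F a) i = μ + (i + (ρ (su F a) μ - μ)) := by
      rw [← hdec a ha, ← rho_comp, ← rho_comp, hi a,
        show ρ (sv F (-a⁻¹)) i = i + μ from by rw [hμ]; abel, map_add, hi a]
      abel
    have h2 : i + (ρ (su F a) μ - μ) = 0 := by
      refine hzero _ (fun b => by rw [map_add, hi b, hlam]) (fun b => ?_)
      have h3 : i + (ρ (su F a) μ - μ) = ρ (sw F a) i - μ := by rw [h1]; abel
      rw [h3, map_sub, hswu a ha i hi b, hμv]
    rw [h1, h2, add_zero, hμ]
  have hwj : ∀ a : F, a ≠ 0 → ∀ j, (∀ b, ρ (sv F b) j = j) →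
      ρ (sw F a) j = ρ (su F a) j - j := by
    intro a ha j hj
    obtain ⟨l, hl⟩ : ∃ l, l = ρ (su F a) j - j := ⟨_, rfl⟩
    have hlu : ∀ b, ρ (su F b) l = l := hl ▸ hlam _ j
    obtain ⟨μ, hμ⟩ : ∃ μ, μ = ρ (sv F (-a⁻¹)) l - l := ⟨_, rfl⟩
    have hμl : ρ (su F a) μ - μ = -l := by
      have hμv : ∀ b, ρ (sv F b) μ = μ := hμ ▸ hmu _ l
      have h1 := hwi a ha l hlu
      rw [← hμ] at h1
      rw [← hdec a ha, ← rho_comp, ← rho_comp, hlu a,
        show ρ (sv F (-a⁻¹)) l = l + μ from by rw [hμ]; abel, map_add, hlu a] at h1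
      calc ρ (su F a) μ - μ = (l + ρ (su F a) μ) - μ - l := by abel
        _ = -l := by rw [h1]; abel
    have h1 : ρ (sw F a) j = (j + μ) + l := by
      rw [← hdec a ha, ← rho_comp, ← rho_comp, show ρ (su F a) j = j + l from by rw [hl]; abel,
        map_add, hj, show ρ (sv F (-a⁻¹)) l = l + μ from by rw [hμ]; abel, map_add, map_add, hlu a,
        show ρ (su F a) j = j + l from by rw [hl]; abel,
        show ρ (su F a) μ = μ + -l from by rw [← hμl]; abel]
      abel
    have h2 : j + μ = 0 := by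
      refine hzero _ (fun b => ?_) (fun b => by rw [map_add, hj b, hμ, hmu])
      have h3 : j + μ = ρ (sw F a) j - l := by rw [h1]; abel
      rw [h3, map_sub, hswv a ha j hj b, hlu]
    rw [h1, h2, zero_add, hl]
  -- the scalars
  obtain ⟨σ, hσ⟩ : ∃ σ : F → V → V, ∀ a i,
      σ a i = ρ (su F a) (ρ (sw F (-1)) i) - ρ (sw F (-1)) i := ⟨_, fun _ _ => rfl⟩
  have hσu : ∀ a i, ∀ b, ρ (su F b) (σ a i) = σ a i := fun a i b => by rw [hσ]; exact hlam _ _ b
  have hσt : ∀ (a : Fˣ) i, (∀ b, ρ (su F b) i = i) → σ (a : F) i = ρ (st F a) i := by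
    intro a i hi
    rw [hσ, ← hwj (a : F) a.ne_zero _ (hswu (-1) (by simp) i hi), rho_comp, htw]
  have hσ0 : ∀ i, σ 0 i = 0 := fun i => by rw [hσ, su_zero, rho_one, sub_self]
  have hσ1 : ∀ i, (∀ b, ρ (su F b) i = i) → σ 1 i = i := by
    intro i hi
    have h1 := hσt 1 i hi
    have h2 : st F (1 : Fˣ) = 1 := Subtype.ext (by simp [coe_st, Matrix.one_fin_two, val_mul, val_one, SpecialLinearGroup.coe_mul, SpecialLinearGroup.coe_one])
    rw [Units.val_one, h2, rho_one] at h1
    exact h1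
  have hσadd : ∀ a b i, σ (a + b) i = σ a i + σ b i := by
    intro a b i
    have hb : ρ (su F b) (ρ (sw F (-1)) i) = σ b i + ρ (sw F (-1)) i := by rw [hσ]; abel
    rw [hσ (a + b), su_add, ← rho_comp, hb, map_add, hσu, hσ a]
    abel
  have hσmul : ∀ a b i, (∀ c, ρ (su F c) i = i) → σ (a * b) i = σ a (σ b i) := by
    intro a b i hi
    rcases eq_or_ne a 0 with rfl | ha
    · simp [hσ0]
    rcases eq_or_ne b 0 with rfl | hb
    · simp [hσ0, hσ]
    obtain ⟨a, rfl⟩ := (Ne.isUnit ha)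
    obtain ⟨b, rfl⟩ := (Ne.isUnit hb)
    rw [← Units.val_mul, hσt _ i hi, hσt _ _ (hσu _ i), hσt _ i hi, rho_comp, hst]
  have hσaddv : ∀ a i k, σ a (i + k) = σ a i + σ a k := by
    intro a i k
    simp only [hσ, map_add]; abel
  have hσneg : ∀ a i, σ (-a) i = -σ a i := fun a i =>
    eq_neg_of_add_eq_zero_left (by rw [← hσadd, neg_add_cancel, hσ0])
  obtain ⟨M, hMdef⟩ : ∃ M : V → V, ∀ i, M i = ρ (sw F (-1)) i := ⟨_, fun _ => rfl⟩
  have hMadd : ∀ i k, M (i + k) = M i + M k := fun i k => by simp only [hMdef, map_add]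
  have hMM : ∀ i, (∀ b, ρ (su F b) i = i) → M (M i) = -i := by
    intro i hi
    have h1 := hσt (-1) i hi
    rw [Units.val_neg, Units.val_one, hσneg, hσ1 i hi] at h1
    rw [hMdef, hMdef, rho_comp, show sw F (-1) * sw F (-1) = st F (-1) by
      rw [← htw]; simp, ← h1]
  -- the formula
  have key : ∀ g : SpecialLinearGroup (Fin 2) F, ∀ i k, (∀ b, ρ (su F b) i = i) →
      (∀ b, ρ (su F b) k = k) → ρ g (i + M k) =
        (σ (g.1 0 0) i + σ (g.1 0 1) k) + M (σ (g.1 1 0) i + σ (g.1 1 1) k) := by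
    have hP : ∀ g h : SpecialLinearGroup (Fin 2) F,
        (∀ i k, (∀ b, ρ (su F b) i = i) → (∀ b, ρ (su F b) k = k) → ρ g (i + M k) =
          (σ (g.1 0 0) i + σ (g.1 0 1) k) + M (σ (g.1 1 0) i + σ (g.1 1 1) k)) →
        (∀ i k, (∀ b, ρ (su F b) i = i) → (∀ b, ρ (su F b) k = k) → ρ h (i + M k) =
          (σ (h.1 0 0) i + σ (h.1 0 1) k) + M (σ (h.1 1 0) i + σ (h.1 1 1) k)) →
        ∀ i k, (∀ b, ρ (su F b) i = i) → (∀ b, ρ (su F b) k = k) → ρ (g * h) (i + M k) =
          (σ ((g * h).1 0 0) i + σ ((g * h).1 0 1) k) +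
            M (σ ((g * h).1 1 0) i + σ ((g * h).1 1 1) k) := by
      intro g h hg hh i k hi hk
      rw [← rho_comp, hh i k hi hk, hg _ _ (fun b => by rw [map_add, hσu, hσu])
        (fun b => by rw [map_add, hσu, hσu])]
      simp only [val_mul, Matrix.mul_apply, Fin.sum_univ_two, hσadd, hσaddv,
        hσmul _ _ i hi, hσmul _ _ k hk, hMadd]
      abel
    have hUP : ∀ a : F, ∀ i k, (∀ b, ρ (su F b) i = i) → (∀ b, ρ (su F b) k = k) →
        ρ (su F a) (i + M k) = (σ ((su F a).1 0 0) i + σ ((su F a).1 0 1) k) +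
          M (σ ((su F a).1 1 0) i + σ ((su F a).1 1 1) k) := by
      intro a i k hi hk
      simp [coe_su, hσ0, hσ1 i hi, hσ1 k hk, val_mul, val_one, SpecialLinearGroup.coe_mul, SpecialLinearGroup.coe_one]
      have := hσ a k
      change ρ (su F a) i + ρ (su F a) (M k) = _
      rw [hi a, this, hMdef]
      abel
    have hVP : ∀ a : F, ∀ i k, (∀ b, ρ (su F b) i = i) → (∀ b, ρ (su F b) k = k) →
        ρ (sv F a) (i + M k) = (σ ((sv F a).1 0 0) i + σ ((sv F a).1 0 1) k) +
          M (σ ((sv F a).1 1 0) i + σ ((sv F a).1 1 1) k) := by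
      intro a i k hi hk
      simp [coe_sv, hσ0, hσ1 i hi, hσ1 k hk, hMadd, val_mul, val_one, SpecialLinearGroup.coe_mul, SpecialLinearGroup.coe_one]
      change ρ (sv F a) i + ρ (sv F a) (M k) = _
      have h1 : ρ (sv F a) (M k) = M k := by rw [hMdef]; exact hswu _ (by simp) k hk a
      have h2 : ρ (sv F a) i = i + M (σ a i) := by
        have h3 : ρ (sv F a) (M (M i)) = M (M i + σ (-a) i) := by
          rw [hMdef (M i), rho_comp, hvu a, inv_mul_cancel_right, ← rho_comp, hMdef (_ + _)]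
          congr 1
          rw [hσ (-a), hMdef]; abel
        rw [hMM i hi, map_neg, hMadd, hMM i hi, hσneg] at h3
        have hMneg : ∀ x, M (-x) = -M x := fun x => by simp only [hMdef, map_neg]
        rw [hMneg] at h3
        rw [← neg_neg (ρ (sv F a) i), h3]
        abel
      rw [h1, h2]
      abel
    have hcase : ∀ g : SpecialLinearGroup (Fin 2) F, g.1 1 0 ≠ 0 →
        ∀ i k, (∀ b, ρ (su F b) i = i) → (∀ b, ρ (su F b) k = k) → ρ g (i + M k) =
          (σ (g.1 0 0) i + σ (g.1 0 1) k) + M (σ (g.1 1 0) i + σ (g.1 1 1) k) := by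
      intro g hc
      have hdet := g.2
      rw [Matrix.det_fin_two] at hdet
      have he : g = su F ((g.1 0 0 - 1) / g.1 1 0) * sv F (g.1 1 0) *
          su F ((g.1 1 1 - 1) / g.1 1 0) := by
        refine Subtype.ext ?_
        ext i j; fin_cases i <;> fin_cases j <;>
          simp [coe_su, coe_sv, Matrix.mul_apply, Fin.sum_univ_two, val_mul, val_one, SpecialLinearGroup.coe_mul, SpecialLinearGroup.coe_one] <;> field_simp <;>
            grind
      rw [he]
      exact hP _ _ (hP _ _ (hUP _) (hVP _)) (hUP _)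
    intro g
    rcases eq_or_ne (g.1 1 0) 0 with hc | hc
    · have hd : (g * sv F 1).1 1 0 ≠ 0 := by
        have hdet := g.2
        rw [Matrix.det_fin_two, hc, mul_zero, sub_zero] at hdet
        simp [coe_sv, Matrix.mul_apply, Fin.sum_univ_two, hc, val_mul, val_one, SpecialLinearGroup.coe_mul, SpecialLinearGroup.coe_one]
        exact right_ne_zero_of_mul_eq_one hdet
      have he : g = g * sv F 1 * sv F (-1) := by
        rw [mul_assoc]
        have : sv F 1 * sv F (-1) = 1 := Subtype.ext (by simp [coe_sv, Matrix.one_fin_two, val_mul, val_one, SpecialLinearGroup.coe_mul, SpecialLinearGroup.coe_one])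
        rw [this, mul_one]
      rw [he]
      exact hP _ _ (hcase _ hd) (hVP _)
    · exact hcase g hc
  -- conclusion
  have hvMk : ∃ i k, (∀ b, ρ (su F b) i = i) ∧ (∀ b, ρ (su F b) k = k) ∧ v = i + M k := by
    obtain ⟨i, j, hi, hj, rfl⟩ := hM.span _ hw1 v
    have hjv : ∀ b, ρ (sv F b) j = j := fun b => by
      refine hj _ ⟨su F (-b), ⟨-b, rfl⟩, ?_⟩
      show sw F 1 * su F (-b) * (sw F 1)⁻¹ = sv F b
      rw [mul_inv_eq_iff_eq_mul, hwv 1 b one_ne_zero]; simp
    refine ⟨i, -M j, hu.mpr hi, fun b => ?_, ?_⟩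
    · rw [map_neg, hMdef, hswv _ (by simp) j hjv b]
    · congr 1
      obtain ⟨k, hk⟩ : ∃ k, k = -M j := ⟨_, rfl⟩
      have hku : ∀ b, ρ (su F b) k = k := fun b => by
        rw [hk, map_neg, hMdef, hswv _ (by simp) j hjv b]
      have h1 := hMM k hku
      rw [← hk]
      have h2 : ρ (sw F (-1)) (M k) = ρ (sw F (-1)) j := by
        rw [← hMdef, h1, hk, neg_neg, hMdef]
      have h3 := congrArg (ρ (sw F (-1))⁻¹) h2
      rw [rho_comp, rho_comp, inv_mul_cancel, rho_one, rho_one] at h3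
      exact h3.symm
  obtain ⟨i, k, hi, hk, rfl⟩ := hvMk
  rw [key g i k hi hk] at hv
  have hMneg : ∀ x, M (-x) = -M x := fun x => by simp only [hMdef, map_neg]
  have hMz : ∀ x, (∀ b, ρ (su F b) x = x) → M x = 0 → x = 0 := fun x hx h => by
    have := hMM x hx
    rw [h, hMdef, map_zero, eq_comm, neg_eq_zero] at this
    exact this
  obtain ⟨a, ha⟩ : ∃ a, a = σ (g.1 0 0) i + σ (g.1 0 1) k - i := ⟨_, rfl⟩
  obtain ⟨c, hc⟩ : ∃ c, c = σ (g.1 1 0) i + σ (g.1 1 1) k - k := ⟨_, rfl⟩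
  have hau : ∀ b, ρ (su F b) a = a := fun b => by rw [ha, map_sub, map_add, hσu, hσu, hi]
  have hcu : ∀ b, ρ (su F b) c = c := fun b => by rw [hc, map_sub, map_add, hσu, hσu, hk]
  have hsum : a + M c = 0 := by
    rw [ha, hc, sub_eq_add_neg (σ (g.1 1 0) i + _), hMadd, hMneg]
    calc _ = (σ (g.1 0 0) i + σ (g.1 0 1) k + M (σ (g.1 1 0) i + σ (g.1 1 1) k)) - (i + M k) := by
          abel
      _ = 0 := by rw [hv, sub_self]
  have ha0 : a = 0 := by
    refine hzero a hau fun b => ?_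
    rw [eq_neg_of_add_eq_zero_left hsum, map_neg, hMdef, hswu _ (by simp) c hcu b]
  have hc0 : c = 0 := hMz c hcu (by rwa [ha0, zero_add] at hsum)
  have hi' : σ (g.1 0 0 - 1) i + σ (g.1 0 1) k = 0 := by
    rw [sub_eq_add_neg, hσadd, hσneg, hσ1 i hi, ← ha0, ha]; abel
  have hk' : σ (g.1 1 0) i + σ (g.1 1 1 - 1) k = 0 := by
    rw [sub_eq_add_neg, hσadd, hσneg, hσ1 k hk, ← hc0, hc]; abel
  have hσz : ∀ a, σ a 0 = 0 := fun a => by simp [hσ]
  obtain ⟨δ, hδ⟩ : ∃ δ : F, δ = (g.1 0 0 - 1) * (g.1 1 1 - 1) - g.1 0 1 * g.1 1 0 := ⟨_, rfl⟩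
  rcases eq_or_ne δ 0 with hδ0 | hδ0
  · exfalso
    apply hg
    have hdet := g.2
    rw [Matrix.det_fin_two] at hdet
    have hN : (g.1 - 1) * (g.1 - 1) = 0 := by
      have ht : g.1 0 0 + g.1 1 1 = 2 := by rw [hδ0] at hδ; linear_combination hδ + hdet
      ext i j; fin_cases i <;> fin_cases j <;>
        simp [Matrix.mul_apply, Fin.sum_univ_two, Matrix.sub_apply] <;> grind
    refine Subtype.ext ?_
    rw [val_pow, val_one]
    have : g.1 = 1 + (g.1 - 1) := by abel
    rw [this, add_pow_char_of_commute p (Commute.one_left _), one_pow,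
      ← Nat.add_sub_cancel' (Nat.Prime.two_le (Fact.out : p.Prime)), pow_add, pow_two, hN, zero_mul,
      add_zero]
  · have hlin : ∀ x, (∀ b, ρ (su F b) x = x) → σ δ x = 0 → x = 0 := fun x hx h => by
      have := hσmul δ⁻¹ δ x hx
      rw [inv_mul_cancel₀ hδ0, hσ1 x hx, h, hσz] at this
      exact this
    have e1 : σ δ i = 0 := by
      have h1 := congrArg (σ (g.1 1 1 - 1)) hi'
      have h2 := congrArg (σ (g.1 0 1)) hk'
      rw [hσaddv, ← hσmul _ _ i hi, ← hσmul _ _ k hk, hσz] at h1 h2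
      rw [hδ, sub_eq_add_neg, hσadd, hσneg, mul_comm]
      rw [mul_comm (g.1 1 1 - 1) (g.1 0 1)] at h1
      rw [← sub_eq_add_neg]
      calc _ = (σ ((g.1 1 1 - 1) * (g.1 0 0 - 1)) i + σ (g.1 0 1 * (g.1 1 1 - 1)) k) -
            (σ (g.1 0 1 * g.1 1 0) i + σ (g.1 0 1 * (g.1 1 1 - 1)) k) := by abel
        _ = 0 := by rw [h1, h2, sub_self]
    have e2 : σ δ k = 0 := by
      have h1 := congrArg (σ (g.1 1 0)) hi'
      have h2 := congrArg (σ (g.1 0 0 - 1)) hk'
      rw [hσaddv, ← hσmul _ _ i hi, ← hσmul _ _ k hk, hσz] at h1 h2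
      rw [hδ, sub_eq_add_neg, hσadd, hσneg]
      rw [mul_comm (g.1 1 0) (g.1 0 1), mul_comm (g.1 1 0) (g.1 0 0 - 1)] at h1
      rw [← sub_eq_add_neg]
      calc _ = (σ ((g.1 0 0 - 1) * g.1 1 0) i + σ ((g.1 0 0 - 1) * (g.1 1 1 - 1)) k) -
            (σ ((g.1 0 0 - 1) * g.1 1 0) i + σ (g.1 0 1 * g.1 1 0) k) := by abel
        _ = 0 := by rw [h1, h2, sub_self]
    rw [hlin i hi e1, hlin k hk e2, hMdef, map_zero, add_zero]

/-- An elementary abelian subgroup of order `q` is conjugate to the upper unipotent one. -/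
theorem exists_conj_uGrp [Fintype F] (p : ℕ) [Fact p.Prime] [CharP F p]
    {Y : Subgroup (SpecialLinearGroup (Fin 2) F)} (hY : Nat.card Y = Fintype.card F) :
    ∃ s : SpecialLinearGroup (Fin 2) F, Y.map (MulAut.conj s).toMonoidHom = uGrp F := by
  obtain ⟨n, hp, hn⟩ := FiniteField.card F p
  have hu : Nat.card (uGrp F) = Fintype.card F := by
    rw [← Nat.card_eq_fintype_card]
    exact (Nat.card_congr (Equiv.ofBijective (fun a => (⟨su F a, a, rfl⟩ : uGrp F))
      ⟨fun a b h => su_injective (congrArg Subtype.val h),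
        fun ⟨_, a, rfl⟩ => ⟨a, rfl⟩⟩)).symm
  have hfac : (Nat.card (SpecialLinearGroup (Fin 2) F)).factorization p = n := by
    rw [Cfsg.Agent.GLOrder.card_SL_two, Nat.card_eq_fintype_card, hn]
    have h1 : ¬ p ∣ (p ^ (n : ℕ)) ^ 2 - 1 := by
      intro h
      have h2 : p ∣ (p ^ (n : ℕ)) ^ 2 :=
        dvd_pow (dvd_pow_self p n.pos.ne') two_ne_zero
      have h3 : 1 ≤ (p ^ (n : ℕ)) ^ 2 := Nat.one_le_pow _ _ (pow_pos hp.pos _)
      have h4 := Nat.dvd_sub h2 h
      rw [Nat.sub_sub_self h3] at h4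
      exact hp.not_dvd_one h4
    have h0 : (p ^ (n : ℕ)) ^ 2 - 1 ≠ 0 := fun h => h1 (h ▸ dvd_zero p)
    rw [Nat.factorization_mul (pow_ne_zero _ hp.ne_zero) h0, Finsupp.add_apply,
      Nat.factorization_eq_zero_of_not_dvd h1, Nat.Prime.factorization_pow hp,
      Finsupp.single_eq_same, add_zero]
  let P : Sylow p (SpecialLinearGroup (Fin 2) F) := Sylow.ofCard Y (by rw [hY, hn, hfac])
  let R : Sylow p (SpecialLinearGroup (Fin 2) F) := Sylow.ofCard (uGrp F) (by rw [hu, hn, hfac])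
  obtain ⟨s, hs⟩ := MulAction.exists_smul_eq (SpecialLinearGroup (Fin 2) F) P R
  refine ⟨s, ?_⟩
  have := congrArg Sylow.toSubgroup hs
  simp only [P, R, Sylow.coe_subgroup_smul, Sylow.coe_ofCard] at this
  exact this

end sl2

end Cfsg.Agent.FrakLModule
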