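import Cfsg.Agent.EqLemmas

/-!
# Modules split into two halves by a subgroup with a unique maximal overgroup

`Halves Y ρ`: `Y` lies in the single maximal subgroup `N(Y)`, and the module is the sum of the
fixed spaces of `Y` and of any conjugate outside `N(Y)`.
-/

set_option autoImplicit false
set_option linter.style.haveILetI false

namespace Cfsg.Agent.FrakLModule

variable {H : Type*} [Group H] {V : Type*} [AddCommGroup V]

/-- `v` is fixed by every element of the subgroup. -/
def Fixes (ρ : H →* AddMonoid.End V) (X : Subgroup H) (v : V) : Prop := ∀ x ∈ X, ρ x v = v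

/-- The stabiliser of a vector. -/
def stab (ρ : H →* AddMonoid.End V) (v : V) : Subgroup H where
  carrier := {g | ρ g v = v}
  one_mem' := by simp
  mul_mem' := by
    intro a b (ha : ρ a v = v) (hb : ρ b v = v)
    show ρ (a * b) v = v
    rw [map_mul]
    show ρ a (ρ b v) = v
    rw [hb, ha]
  inv_mem' := by
    intro a (ha : ρ a v = v)
    show ρ a⁻¹ v = v
    conv_lhs => rw [← ha]
    show (ρ a⁻¹ * ρ a) v = v
    rw [← map_mul, inv_mul_cancel, map_one]
    rfl

lemma mem_stab {ρ : H →* AddMonoid.End V} {v : V} {g : H} : g ∈ stab ρ v ↔ ρ g v = v := Iff.rfl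

lemma rho_comp (ρ : H →* AddMonoid.End V) (g h : H) (v : V) : ρ g (ρ h v) = ρ (g * h) v := by
  rw [map_mul]; rfl

lemma rho_one (ρ : H →* AddMonoid.End V) (v : V) : ρ 1 v = v := by rw [map_one]; rfl

/-- A subgroup with a single maximal overgroup, its normaliser. -/
structure OneMax (Y : Subgroup H) : Prop where
  max : ∀ X : Subgroup H, Y ≤ X → X ≠ ⊤ → X ≤ Subgroup.normalizer (Y : Set H)
  proper : Subgroup.normalizer (Y : Set H) ≠ ⊤
  gen : Subgroup.normalClosure (Y : Set H) = ⊤

/-- The module hypotheses. -/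
structure Halves (Y : Subgroup H) (ρ : H →* AddMonoid.End V) : Prop extends OneMax Y where
  fix0 : ∀ v, (∀ g, ρ g v = v) → v = 0
  span : ∀ g ∉ Subgroup.normalizer (Y : Set H), ∀ v, ∃ i j, Fixes ρ Y i ∧
    Fixes ρ (Y.map (MulAut.conj g).toMonoidHom) j ∧ v = i + j
  quad : ∀ v, ∀ y ∈ Y, Fixes ρ Y (ρ y v - v)
  faith : Function.Injective ρ

variable {Y : Subgroup H}

lemma exists_notMem (hY : OneMax Y) : ∃ g, g ∉ Subgroup.normalizer (Y : Set H) := by
  by_contra h
  push Not at h
  exact hY.proper (eq_top_iff.mpr fun g _ => h g)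

lemma map_conj_sup_eq_top [Finite H] (hY : OneMax Y) {g : H}
    (hg : g ∉ Subgroup.normalizer (Y : Set H)) :
    Y ⊔ Y.map (MulAut.conj g).toMonoidHom = ⊤ := by
  by_contra h
  set N := Subgroup.normalizer (Y : Set H) with hN
  have hYN : Y ≤ N := Subgroup.le_normalizer
  have h1 := hY.max _ le_sup_left h
  -- `g⁻¹ N g` is a proper overgroup of `Y`
  have h2 : N.map (MulAut.conj g⁻¹).toMonoidHom ≤ N := by
    refine hY.max _ ?_ ?_
    · intro y hy
      refine ⟨g * y * g⁻¹, h1 (le_sup_right (a := Y) ⟨y, hy, rfl⟩), ?_⟩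
      simp [mul_assoc]
    · intro ht
      apply hY.proper
      apply Subgroup.eq_top_of_card_eq
      rw [← hN, ← Subgroup.card_top (G := H), ← ht]
      exact (Subgroup.card_map_of_injective (MulAut.conj g⁻¹).injective).symm
  have hgN : g⁻¹ ∈ Subgroup.normalizer (N : Set H) := by
    rw [Subgroup.mem_normalizer_iff]
    intro z
    constructor
    · intro hz
      exact h2 ⟨z, hz, rfl⟩
    · intro hz
      have heq : N.map (MulAut.conj g⁻¹).toMonoidHom = N :=
        Subgroup.eq_of_le_of_card_ge h2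
          (Subgroup.card_map_of_injective (MulAut.conj g⁻¹).injective).ge
      rw [← heq] at hz
      obtain ⟨w, hw, he⟩ := hz
      simp at he
      exact he ▸ hw
  apply hg
  have h3 : Subgroup.normalizer (N : Set H) ≠ ⊤ := fun ht => by
    haveI : N.Normal := Subgroup.normalizer_eq_top_iff.mp ht
    have := Subgroup.normalClosure_le_normal (N := N) (s := (Y : Set H)) hYN
    rw [hY.gen] at this
    exact hY.proper (eq_top_iff.mpr this)
  simpa using inv_mem (hY.max _ (hYN.trans Subgroup.le_normalizer) h3 hgN)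

namespace Halves

variable {ρ : H →* AddMonoid.End V} (hM : Halves Y ρ)
include hM

lemma eq_zero_of_fixes [Finite H] {g : H} (hg : g ∉ Subgroup.normalizer (Y : Set H)) {v : V}
    (h1 : Fixes ρ Y v) (h2 : Fixes ρ (Y.map (MulAut.conj g).toMonoidHom) v) : v = 0 := by
  refine hM.fix0 v fun x => ?_
  have : (⊤ : Subgroup H) ≤ stab ρ v := by
    rw [← map_conj_sup_eq_top hM.toOneMax hg]
    exact sup_le h1 h2
  exact this (Subgroup.mem_top x)

/-- A nontrivial element of `Y` fixes only the fixed space of `Y`. -/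
lemma fixes_of_fixed [Finite H] {y : H} (hy : y ∈ Y) (hy1 : y ≠ 1) {v : V} (hv : ρ y v = v) :
    Fixes ρ Y v := by
  obtain ⟨g, hg⟩ := exists_notMem hM.toOneMax
  obtain ⟨i, j, hi, hj, rfl⟩ := hM.span g hg v
  rw [map_add, hi y hy, add_right_inj] at hv
  suffices j = 0 by simpa [this] using hi
  by_contra hj0
  set Yg := Y.map (MulAut.conj g).toMonoidHom with hYg
  -- `y` normalises the conjugate
  have hmax : stab ρ j ≤ Subgroup.normalizer (Yg : Set H) := by
    have htop : stab ρ j ≠ ⊤ := fun ht => hj0 (hM.fix0 j fun x =>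
      (ht ▸ Subgroup.mem_top x : x ∈ stab ρ j))
    have hback : (stab ρ j).map (MulAut.conj g⁻¹).toMonoidHom ≤
        Subgroup.normalizer (Y : Set H) := by
      refine hM.max _ (fun z hz => ⟨g * z * g⁻¹, hj _ ⟨z, hz, rfl⟩, by simp [mul_assoc]⟩) ?_
      intro ht
      apply htop
      apply Subgroup.eq_top_of_card_eq
      rw [← Subgroup.card_top (G := H), ← ht]
      exact (Subgroup.card_map_of_injective (MulAut.conj g⁻¹).injective).symm
    intro z hz
    have h1 := hback ⟨z, hz, rfl⟩
    have h1' : g⁻¹ * z * g ∈ Subgroup.normalizer (Y : Set H) := by simpa [mul_assoc] using h1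
    rw [Subgroup.mem_normalizer_iff] at h1' ⊢
    intro w
    have := h1' (g⁻¹ * w * g)
    simp only [hYg, Subgroup.mem_map_equiv, MulAut.conj_symm_apply] at *
    simpa [mul_assoc] using this
  have hyN := hmax (show y ∈ stab ρ j from hv)
  -- so it acts trivially
  apply hy1
  apply hM.faith
  rw [map_one]
  refine AddMonoidHom.ext fun w => ?_
  show ρ y w = w
  obtain ⟨a, b, ha, hb, rfl⟩ := hM.span g hg w
  rw [map_add, ha y hy]
  congr 1
  rw [← sub_eq_zero]
  refine hM.eq_zero_of_fixes hg (hM.quad b y hy) fun z hz => ?_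
  have hz' : y⁻¹ * z * y ∈ Yg := (Subgroup.mem_normalizer_iff''.mp hyN z).mp hz
  rw [map_sub, hb z hz, rho_comp, show z * y = y * (y⁻¹ * z * y) by group, ← rho_comp, hb _ hz']

/-- An element of odd order inverted by an element of a conjugate of `Y` is fixed-point-free
(characteristic two). -/
theorem eq_zero_of_inverted [Finite H] (htwo : ∀ v : V, v + v = 0)
    (hYtwo : ∀ y ∈ Y, y * y = 1) {h : H} (hodd : Odd (orderOf h)) (h1 : h ≠ 1) {x t : H}
    (ht : x⁻¹ * t * x ∈ Y) (ht1 : t ≠ 1) (hinv : t * h * t⁻¹ = h⁻¹) {v : V} (hv : ρ h v = v) :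
    v = 0 := by
  have htt : t * t = 1 := by
    have := hYtwo _ ht
    have h' : x⁻¹ * (t * t) * x = 1 := by rw [← this]; group
    calc t * t = x * (x⁻¹ * (t * t) * x) * x⁻¹ := by group
      _ = 1 := by rw [h']; group
  -- no vector is fixed by both `h` and `t`
  have key : ∀ w : V, ρ h w = w → ρ t w = w → w = 0 := by
    intro w hw htw
    by_contra hw0
    have hu : Fixes ρ Y (ρ x⁻¹ w) := by
      refine hM.fixes_of_fixed ht ?_ ?_
      · intro he
        apply ht1
        calc t = x * (x⁻¹ * t * x) * x⁻¹ := by group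
          _ = 1 := by rw [he]; group
      · rw [rho_comp, show x⁻¹ * t * x * x⁻¹ = x⁻¹ * t by group, ← rho_comp, htw]
    set u := ρ x⁻¹ w
    have hu0 : u ≠ 0 := fun h0 => hw0 (by
      have := congrArg (ρ x) h0
      rw [map_zero, rho_comp, mul_inv_cancel, rho_one] at this
      exact this)
    have htop : stab ρ u ≠ ⊤ := fun ht' => hu0 (hM.fix0 u fun z =>
      (ht' ▸ Subgroup.mem_top z : z ∈ stab ρ u))
    have hN := hM.max _ hu htop
    have hh' : x⁻¹ * h * x ∈ stab ρ u := by
      show ρ (x⁻¹ * h * x) (ρ x⁻¹ w) = ρ x⁻¹ w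
      rw [rho_comp, show x⁻¹ * h * x * x⁻¹ = x⁻¹ * h by group, ← rho_comp, hw]
    have hn := hN hh'
    set a := x⁻¹ * h * x with ha
    set s := x⁻¹ * t * x with hs
    have hc : a * s * a⁻¹ ∈ Y := (Subgroup.mem_normalizer_iff.mp hn s).mp ht
    have hsq : a * s * a⁻¹ * s⁻¹ = a * a := by
      have h2 : s * a⁻¹ * s⁻¹ = a := by
        calc s * a⁻¹ * s⁻¹ = x⁻¹ * (t * h * t⁻¹)⁻¹ * x := by rw [ha, hs]; group
          _ = a := by rw [hinv, inv_inv]
      calc a * s * a⁻¹ * s⁻¹ = a * (s * a⁻¹ * s⁻¹) := by group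
        _ = a * a := by rw [h2]
    have h4 := hYtwo _ (hsq ▸ Y.mul_mem hc (Y.inv_mem ht))
    have h4' : orderOf a ∣ 4 := orderOf_dvd_of_pow_eq_one (by rw [← h4]; simp [pow_succ, mul_assoc])
    have hao : orderOf a = orderOf h := by
      have : a = MulAut.conj x⁻¹ h := by simp [ha]
      rw [this, MulEquiv.orderOf_eq]
    rw [hao] at h4'
    have : orderOf h = 1 := by
      have hcop : Nat.Coprime (orderOf h) 4 :=
        Nat.Coprime.pow_right 2 hodd.coprime_two_right
      exact Nat.eq_one_of_dvd_coprimes hcop dvd_rfl h4'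
    exact h1 (orderOf_eq_one_iff.mp this)
  have hinv' : ρ h⁻¹ v = v := (stab ρ v).inv_mem (x := h) hv
  have h5 : v + ρ t v = 0 := by
    refine key _ ?_ ?_
    · rw [map_add, hv, rho_comp, show h * t = t * h⁻¹ from ?_, ← rho_comp, hinv']
      have ht' : t⁻¹ = t := inv_eq_of_mul_eq_one_right htt
      calc h * t = (h⁻¹)⁻¹ * t := by rw [inv_inv]
        _ = (t * h * t⁻¹)⁻¹ * t := by rw [hinv]
        _ = t * h⁻¹ * (t⁻¹ * t) := by group
        _ = t * h⁻¹ := by group
    · rw [map_add, rho_comp, htt, rho_one, add_comm]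
  have htv : ρ t v = v := by
    calc ρ t v = (v + ρ t v) - v := by abel
      _ = -v := by rw [h5, zero_sub]
      _ = v := neg_eq_of_add_eq_zero_left (htwo v)
  exact key v hv htv

end Halves

end Cfsg.Agent.FrakLModule
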