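import Cfsg.Agent.Lib.FrakLModule.SzModel
import Cfsg.Agent.Lib.LargeSub.PReducedOf
import Cfsg.Agent.Lib.Cores.Basic
import Cfsg.Prelude.Def_LocalStructure

/-!
# Members of the L-family: the module `A/C` and the quotient `L/A`

`LData` collects the facts about `Y ≤ L` used; `LData.of_isInFrakL`.  `fixed_mem` (S2863),
`uniq_quot` (S2861).
-/

set_option autoImplicit false
set_option linter.style.haveILetI false

namespace Cfsg.Agent.FrakLModule

open Cfsg

variable {K : Type*} [Group K] [Finite K] {p : ℕ}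

/-- The hypotheses on the subgroup `Y` of the group `K`. -/
structure LData (p : ℕ) (Y : Subgroup K) : Prop where
  elem : Cfsg.IsElementaryAbelian p Y
  ncl : Cfsg.pCore p K = Subgroup.normalClosure ((Y ⊓ Cfsg.pCore p K : Subgroup K) : Set K)
  norm : Cfsg.pCore p K ≤ Subgroup.normalizer (Y : Set K)
  om : OneMax Y
  char : Subgroup.centralizer (Cfsg.pCore p K : Set K) ≤ Cfsg.pCore p K

variable {Y : Subgroup K}

namespace LData

variable (h : LData p Y)
include h

lemma comm {a b : K} (ha : a ∈ Y) (hb : b ∈ Y) : a * b = b * a := by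
  haveI := h.elem.1
  exact congrArg Subtype.val (mul_comm' (⟨a, ha⟩ : Y) ⟨b, hb⟩)

lemma not_le : ¬ Y ≤ Cfsg.pCore p K := by
  intro hle
  apply h.om.proper
  have := Subgroup.normalClosure_le_normal (N := Cfsg.pCore p K) (s := (Y : Set K)) hle
  rw [h.om.gen] at this
  exact eq_top_iff.mpr (this.trans h.norm)

lemma oneMax_map : OneMax (Y.map (QuotientGroup.mk' (Cfsg.pCore p K))) := by
  set π := QuotientGroup.mk' (Cfsg.pCore p K)
  have hsur : Function.Surjective π := QuotientGroup.mk'_surjective _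
  refine ⟨?_, ?_, ?_⟩
  · intro X hX hne
    rw [← Subgroup.map_comap_eq_self_of_surjective hsur X]
    refine le_trans (Subgroup.map_mono (h.om.max _ (Subgroup.map_le_iff_le_comap.mp hX) fun ht => ?_))
      (Subgroup.le_normalizer_map π)
    exact hne (by rw [← Subgroup.map_comap_eq_self_of_surjective hsur X, ht,
      Subgroup.map_top_of_surjective _ hsur])
  · intro ht
    have hn : (Y.map π).Normal := Subgroup.normalizer_eq_top_iff.mp ht
    have hN : ((Y.map π).comap π).Normal := hn.comap π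
    have hle : (Y.map π).comap π ≤ Subgroup.normalizer (Y : Set K) := by
      rw [Subgroup.comap_map_eq, QuotientGroup.ker_mk']
      exact sup_le Subgroup.le_normalizer h.norm
    have := Subgroup.normalClosure_le_normal (N := (Y.map π).comap π) (s := (Y : Set K))
      (Subgroup.le_comap_map π Y)
    rw [h.om.gen] at this
    exact h.om.proper (eq_top_iff.mpr (this.trans hle))
  · rw [Subgroup.coe_map, ← Subgroup.map_normalClosure (Y : Set K) π hsur, h.om.gen,
      Subgroup.map_top_of_surjective _ hsur]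

lemma normalizer_map :
    Subgroup.normalizer (Y.map (QuotientGroup.mk' (Cfsg.pCore p K)) : Set (K ⧸ Cfsg.pCore p K)) =
      (Subgroup.normalizer (Y : Set K)).map (QuotientGroup.mk' (Cfsg.pCore p K)) := by
  set π := QuotientGroup.mk' (Cfsg.pCore p K)
  have hsur : Function.Surjective π := QuotientGroup.mk'_surjective _
  refine le_antisymm ?_ (Subgroup.le_normalizer_map π)
  set X := Subgroup.normalizer (Y.map π : Set (K ⧸ Cfsg.pCore p K)) with hX
  rw [← Subgroup.map_comap_eq_self_of_surjective hsur X]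
  refine Subgroup.map_mono (h.om.max _ ?_ fun ht => h.oneMax_map.proper ?_)
  · exact (Subgroup.le_comap_map π Y).trans (Subgroup.comap_mono Subgroup.le_normalizer)
  · rw [← hX, ← Subgroup.map_comap_eq_self_of_surjective hsur X, ht,
      Subgroup.map_top_of_surjective _ hsur]

lemma elem_map : Cfsg.IsElementaryAbelian p (Y.map (QuotientGroup.mk' (Cfsg.pCore p K))) := by
  refine ⟨⟨⟨?_⟩⟩, ?_⟩
  · rintro ⟨_, a, ha, rfl⟩ ⟨_, b, hb, rfl⟩
    exact Subtype.ext (show _ * _ = _ * _ by rw [← map_mul, ← map_mul, h.comm ha hb])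
  · rintro _ ⟨a, ha, rfl⟩
    rw [← map_pow, h.elem.2 a ha, map_one]

lemma map_ne_bot : Y.map (QuotientGroup.mk' (Cfsg.pCore p K)) ≠ ⊥ := by
  intro hb
  rw [Subgroup.map_eq_bot_iff, QuotientGroup.ker_mk'] at hb
  exact h.not_le hb

variable [Fact p.Prime]

lemma isPGroup_Y : IsPGroup p Y := fun y => ⟨1, Subtype.ext (by simpa using h.elem.2 _ y.2)⟩

lemma inf_center_le : Y ⊓ Subgroup.center K ≤ Cfsg.pCore p K := by
  refine Cfsg.Agent.Cores.le_pCore ⟨fun n hn g => ?_⟩ (h.isPGroup_Y.to_le inf_le_left)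
  rw [Subgroup.mem_center_iff.mp hn.2 g, mul_inv_cancel_right]
  exact hn

omit [Fact p.Prime] in
/-- An element fixed modulo `Y ∩ Z(K)` and centralising `Y` is central. -/
lemma central_of_fixed {i : K} (hc : ∀ g, g * i * g⁻¹ * i⁻¹ ∈ Y ⊓ Subgroup.center K)
    {Y' : Subgroup K} (hgen : Subgroup.normalClosure (Y' : Set K) = ⊤)
    (hi : ∀ y ∈ Y', y * i = i * y) : i ∈ Subgroup.center K := by
  let X : Subgroup K :=
    { carrier := {g | g * i = i * g}
      one_mem' := by simp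
      mul_mem' := fun {a b} (ha : a * i = i * a) (hb : b * i = i * b) => by
        show a * b * i = i * (a * b)
        rw [mul_assoc, hb, ← mul_assoc, ha, mul_assoc]
      inv_mem' := fun {a} (ha : a * i = i * a) => by
        show a⁻¹ * i = i * a⁻¹
        rw [inv_mul_eq_iff_eq_mul, ← mul_assoc, ha, mul_inv_cancel_right] }
  haveI : X.Normal := ⟨fun n (hn : n * i = i * n) g => by
    show g * n * g⁻¹ * i = i * (g * n * g⁻¹)
    obtain ⟨c, hc'⟩ : ∃ c, c = g⁻¹ * i * g⁻¹⁻¹ * i⁻¹ := ⟨_, rfl⟩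
    have hcc := hc g⁻¹
    rw [← hc'] at hcc
    have hgi : g⁻¹ * i = c * (i * g⁻¹) := by rw [hc']; group
    have hcn : n * c = c * n := Subgroup.mem_center_iff.mp hcc.2 n
    have hcg : g * c = c * g := Subgroup.mem_center_iff.mp hcc.2 g
    have hgi' : g * i = c⁻¹ * (i * g) := by
      rw [eq_inv_mul_iff_mul_eq]
      calc c * (g * i) = g * c * i := by rw [← mul_assoc, ← hcg]
        _ = g * (c * (i * g⁻¹)) * g := by group
        _ = i * g := by rw [← hgi]; group
    calc g * n * g⁻¹ * i = g * n * (g⁻¹ * i) := by group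
      _ = g * (n * c) * i * g⁻¹ := by rw [hgi]; group
      _ = (g * c) * (n * i) * g⁻¹ := by rw [hcn]; group
      _ = c * (g * i) * n * g⁻¹ := by rw [hcg, hn]; group
      _ = i * (g * n * g⁻¹) := by rw [hgi']; group⟩
  rw [Subgroup.mem_center_iff]
  intro g
  have hle := Subgroup.normalClosure_le_normal (N := X) (s := (Y' : Set K)) hi
  rw [hgen] at hle
  exact hle (Subgroup.mem_top g)

omit [Fact p.Prime] in
lemma gen_conj (g : K) :
    Subgroup.normalClosure ((Y.map (MulAut.conj g).toMonoidHom : Subgroup K) : Set K) = ⊤ := by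
  rw [Subgroup.coe_map, ← Subgroup.map_normalClosure (Y : Set K) (MulAut.conj g).toMonoidHom
    (MulAut.conj g).surjective, h.om.gen, Subgroup.map_top_of_surjective _ (MulAut.conj g).surjective]

omit [Fact p.Prime] in
lemma conj_inf_mem {y i : K} (hy : y ∈ Subgroup.normalizer (Y : Set K))
    (hi : i ∈ Y ⊓ Cfsg.pCore p K) : y * i * y⁻¹ ∈ Y ⊓ Cfsg.pCore p K :=
  ⟨(Subgroup.mem_normalizer_iff.mp hy i).mp hi.1,
    (Cfsg.Agent.Cores.pCore_normal p K).conj_mem _ hi.2 y⟩

omit [Fact p.Prime] in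
lemma comm_Y_pCore {y a : K} (hy : y ∈ Y) (ha : a ∈ Cfsg.pCore p K) :
    y * a * y⁻¹ * a⁻¹ ∈ Y ⊓ Cfsg.pCore p K := by
  constructor
  · rw [show y * a * y⁻¹ * a⁻¹ = y * (a * y⁻¹ * a⁻¹) by group]
    exact Y.mul_mem hy ((Subgroup.mem_normalizer_iff.mp (h.norm ha) _).mp (Y.inv_mem hy))
  · exact Subgroup.mul_mem _ ((Cfsg.Agent.Cores.pCore_normal p K).conj_mem _ ha y)
      (Subgroup.inv_mem _ ha)

/-- `A = I I^g` and `I ∩ I^g` is central. -/
lemma decomp {g : K} (hg : g ∉ Subgroup.normalizer (Y : Set K)) :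
    (∀ a ∈ Cfsg.pCore p K, ∃ i j, i ∈ Y ⊓ Cfsg.pCore p K ∧
      g⁻¹ * j * g ∈ Y ⊓ Cfsg.pCore p K ∧ a = i * j) ∧
    ∀ x ∈ Y, g⁻¹ * x * g ∈ Y → x ∈ Y ⊓ Subgroup.center K := by
  set A := Cfsg.pCore p K with hA
  set I := Y ⊓ A with hI
  haveI : A.Normal := Cfsg.Agent.Cores.pCore_normal p K
  have hsup : Y ⊔ Y.map (MulAut.conj g).toMonoidHom = ⊤ := map_conj_sup_eq_top h.om hg
  have hAI : A ≤ Subgroup.normalizer (I : Set K) := by
    intro a ha
    rw [Subgroup.mem_normalizer_iff]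
    refine fun x => ⟨h.conj_inf_mem (h.norm ha), fun hx => ?_⟩
    have := h.conj_inf_mem (h.norm (A.inv_mem ha)) hx
    rwa [show a⁻¹ * (a * x * a⁻¹) * a⁻¹⁻¹ = x by group] at this
  constructor
  · set J := I.map (MulAut.conj g).toMonoidHom with hJ
    have hJA : J ≤ A := by
      rintro _ ⟨i, hi, rfl⟩
      exact (inferInstance : A.Normal).conj_mem i hi.2 g
    have hmem : ∀ a, a ∈ I ⊔ J ↔ ∃ i ∈ I, ∃ j ∈ J, i * j = a := by
      intro a
      rw [← SetLike.mem_coe, Subgroup.coe_mul_of_right_le_normalizer_left I J (hJA.trans hAI),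
        Set.mem_mul]
      simp only [SetLike.mem_coe]
    have hnorm : ∀ y ∈ Y ⊔ Y.map (MulAut.conj g).toMonoidHom, ∀ a ∈ I ⊔ J,
        y * a * y⁻¹ ∈ I ⊔ J := by
      let X : Subgroup K :=
        { carrier := {y | (∀ a ∈ I ⊔ J, y * a * y⁻¹ ∈ I ⊔ J) ∧ ∀ a ∈ I ⊔ J, y⁻¹ * a * y ∈ I ⊔ J}
          one_mem' := by constructor <;> intro a ha <;> simpa using ha
          mul_mem' := fun {b c} hb hc => by
            constructor <;> intro a ha
            · rw [show b * c * a * (b * c)⁻¹ = b * (c * a * c⁻¹) * b⁻¹ by group]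
              exact hb.1 _ (hc.1 a ha)
            · rw [show (b * c)⁻¹ * a * (b * c) = c⁻¹ * (b⁻¹ * a * b) * c by group]
              exact hc.2 _ (hb.2 a ha)
          inv_mem' := fun {b} hb => ⟨fun a ha => by simpa using hb.2 a ha,
            fun a ha => by simpa using hb.1 a ha⟩ }
      have hY1 : ∀ y ∈ Y, ∀ a ∈ I ⊔ J, y * a * y⁻¹ ∈ I ⊔ J := by
        intro y hy a ha
        have haA : a ∈ A := sup_le inf_le_right hJA ha
        rw [show y * a * y⁻¹ = (y * a * y⁻¹ * a⁻¹) * a by group]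
        exact Subgroup.mul_mem _ (Subgroup.mem_sup_left (h.comm_Y_pCore hy haA)) ha
      have hY2 : ∀ y ∈ Y.map (MulAut.conj g).toMonoidHom, ∀ a ∈ I ⊔ J, y * a * y⁻¹ ∈ I ⊔ J := by
        rintro _ ⟨y, hy, rfl⟩ a ha
        have haA : g⁻¹ * a * g ∈ A := by
          simpa using (inferInstance : A.Normal).conj_mem a (sup_le inf_le_right hJA ha) g⁻¹
        simp only [MulEquiv.coe_toMonoidHom, MulAut.conj_apply]
        rw [show g * y * g⁻¹ * a * (g * y * g⁻¹)⁻¹ =
          g * (y * (g⁻¹ * a * g) * y⁻¹ * (g⁻¹ * a * g)⁻¹) * g⁻¹ * a by group]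
        exact Subgroup.mul_mem _ (Subgroup.mem_sup_right ⟨_, h.comm_Y_pCore hy haA, rfl⟩) ha
      have hle : Y ⊔ Y.map (MulAut.conj g).toMonoidHom ≤ X := by
        refine sup_le (fun y hy => ⟨hY1 y hy, fun a ha => ?_⟩) fun y hy => ⟨hY2 y hy, fun a ha => ?_⟩
        · simpa using hY1 y⁻¹ (inv_mem hy) a ha
        · simpa using hY2 y⁻¹ (inv_mem hy) a ha
      exact fun y hy => (hle hy).1
    haveI : (I ⊔ J).Normal := ⟨fun a ha y => hnorm y (hsup ▸ Subgroup.mem_top y) a ha⟩
    intro a ha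
    have hle : A ≤ I ⊔ J := by
      conv_lhs => rw [hA, h.ncl]
      exact Subgroup.normalClosure_le_normal (N := I ⊔ J) fun x hx => Subgroup.mem_sup_left hx
    obtain ⟨i, hi, j, ⟨w, hw, rfl⟩, rfl⟩ := (hmem a).mp (hle ha)
    refine ⟨i, _, hi, ?_, rfl⟩
    simpa [mul_assoc] using hw
  · intro x hx hgx
    refine ⟨hx, Subgroup.mem_center_iff.mpr fun z => ?_⟩
    have hle : Y ⊔ Y.map (MulAut.conj g).toMonoidHom ≤ Subgroup.centralizer {x} := by
      refine sup_le (fun y hy => Subgroup.mem_centralizer_singleton_iff.mpr (h.comm hy hx)) ?_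
      rintro _ ⟨y, hy, rfl⟩
      rw [Subgroup.mem_centralizer_singleton_iff]
      show g * y * g⁻¹ * x = x * (g * y * g⁻¹)
      calc g * y * g⁻¹ * x = g * (y * (g⁻¹ * x * g)) * g⁻¹ := by group
        _ = g * ((g⁻¹ * x * g) * y) * g⁻¹ := by rw [h.comm hy hgx]
        _ = x * (g * y * g⁻¹) := by group
    exact Subgroup.mem_centralizer_singleton_iff.mp (hle (hsup ▸ Subgroup.mem_top z))

lemma commutator_mem {a b : K} (ha : a ∈ Cfsg.pCore p K) (hb : b ∈ Cfsg.pCore p K) :
    a * b * a⁻¹ * b⁻¹ ∈ Y ⊓ Subgroup.center K := by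
  obtain ⟨g, hg⟩ := exists_notMem h.om
  obtain ⟨hdec, hint⟩ := h.decomp hg
  haveI : (Y ⊓ Subgroup.center K).Normal := ⟨fun n hn x => by
    rw [Subgroup.mem_center_iff.mp hn.2 x, mul_inv_cancel_right]; exact hn⟩
  let π := QuotientGroup.mk' (Y ⊓ Subgroup.center K)
  have hcross : ∀ i j, i ∈ Y ⊓ Cfsg.pCore p K → g⁻¹ * j * g ∈ Y ⊓ Cfsg.pCore p K →
      Commute (π i) (π j) := by
    intro i j hi hj
    have hjA : j ∈ Cfsg.pCore p K := by
      have := (Cfsg.Agent.Cores.pCore_normal p K).conj_mem _ hj.2 g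
      simpa [mul_assoc] using this
    refine commutatorElement_eq_one_iff_commute.mp ?_
    rw [← map_commutatorElement]
    refine (QuotientGroup.eq_one_iff _).mpr (hint _ ?_ ?_)
    · rw [commutatorElement_def, show i * j * i⁻¹ * j⁻¹ = i * (j * i⁻¹ * j⁻¹) by group]
      exact Y.mul_mem hi.1 ((Subgroup.mem_normalizer_iff.mp (h.norm hjA) _).mp (Y.inv_mem hi.1))
    · rw [commutatorElement_def, show g⁻¹ * (i * j * i⁻¹ * j⁻¹) * g =
        (g⁻¹ * i * g) * (g⁻¹ * j * g) * (g⁻¹ * i * g)⁻¹ * (g⁻¹ * j * g)⁻¹ by group]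
      have hiA : g⁻¹ * i * g ∈ Cfsg.pCore p K := by
        simpa using (Cfsg.Agent.Cores.pCore_normal p K).conj_mem i hi.2 g⁻¹
      exact Y.mul_mem ((Subgroup.mem_normalizer_iff.mp (h.norm hiA) _).mp hj.1) (Y.inv_mem hj.1)
  obtain ⟨i, j, hi, hj, rfl⟩ := hdec a ha
  obtain ⟨i', j', hi', hj', rfl⟩ := hdec b hb
  have h1 : Commute (π i) (π i') := by
    show π i * π i' = π i' * π i
    rw [← map_mul, ← map_mul, h.comm hi.1 hi'.1]
  have h4 : Commute (π j) (π j') := by
    show π j * π j' = π j' * π j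
    rw [← map_mul, ← map_mul]
    congr 1
    have := congrArg (fun w => g * w * g⁻¹) (h.comm hj.1 hj'.1)
    simpa [mul_assoc] using this
  have hab : Commute (π (i * j)) (π (i' * j')) := by
    rw [map_mul, map_mul]
    exact ((h1.mul_right (hcross i j' hi hj')).mul_left ((hcross i' j hi' hj).symm.mul_right h4))
  have := commutatorElement_eq_one_iff_commute.mpr hab
  rw [← map_commutatorElement] at this
  rw [← commutatorElement_def]
  exact (QuotientGroup.eq_one_iff _).mp this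

/-- An element of `A` centralised modulo `C` by all of `K` lies in `C`. -/
lemma mem_of_all_fixed {a : K} (ha : a ∈ Cfsg.pCore p K)
    (hfix : ∀ g, g * a * g⁻¹ * a⁻¹ ∈ Y ⊓ Subgroup.center K) : a ∈ Y ⊓ Subgroup.center K := by
  obtain ⟨g, hg⟩ := exists_notMem h.om
  obtain ⟨hdec, -⟩ := h.decomp hg
  haveI : (Y ⊓ Subgroup.center K).Normal := ⟨fun n hn x => by
    rw [Subgroup.mem_center_iff.mp hn.2 x, mul_inv_cancel_right]; exact hn⟩
  let π := QuotientGroup.mk' (Y ⊓ Subgroup.center K)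
  have hπ : ∀ x z : K, x * z * x⁻¹ * z⁻¹ ∈ Y ⊓ Subgroup.center K ↔ π x * π z = π z * π x := by
    intro x z
    rw [← commutatorElement_def, ← QuotientGroup.eq_one_iff,
      ← QuotientGroup.mk'_apply, map_commutatorElement, commutatorElement_eq_one_iff_mul_comm]
  obtain ⟨i, j, hi, hj, rfl⟩ := hdec a ha
  have hall : ∀ x, π x * π (i * j) = π (i * j) * π x := fun x => (hπ x _).mp (hfix x)
  have hjY : ∀ y ∈ Y.map (MulAut.conj g).toMonoidHom, y * j = j * y := by
    rintro _ ⟨y, hy, rfl⟩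
    show g * y * g⁻¹ * j = j * (g * y * g⁻¹)
    calc g * y * g⁻¹ * j = g * (y * (g⁻¹ * j * g)) * g⁻¹ := by group
      _ = g * ((g⁻¹ * j * g) * y) * g⁻¹ := by rw [h.comm hy hj.1]
      _ = _ := by group
  have hi' : ∀ x, π x * π i = π i * π x := by
    let X : Subgroup (K ⧸ (Y ⊓ Subgroup.center K)) := Subgroup.centralizer {π i}
    have hle : Y ⊔ Y.map (MulAut.conj g).toMonoidHom ≤ X.comap π := by
      refine sup_le (fun y hy => ?_) fun y hy => ?_
      · rw [Subgroup.mem_comap, Subgroup.mem_centralizer_singleton_iff, ← map_mul, ← map_mul,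
          h.comm hy hi.1]
      · rw [Subgroup.mem_comap, Subgroup.mem_centralizer_singleton_iff]
        have e1 := hall y
        have e2 : π y * π j = π j * π y := by rw [← map_mul, ← map_mul, hjY y hy]
        rw [map_mul] at e1
        refine mul_right_cancel (b := π j) ?_
        calc π y * π i * π j = π i * π j * π y := by rw [mul_assoc, e1]
          _ = π i * (π y * π j) := by rw [e2, mul_assoc]
          _ = π i * π y * π j := by rw [mul_assoc]
    rw [map_conj_sup_eq_top h.om hg] at hle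
    exact fun x => Subgroup.mem_centralizer_singleton_iff.mp (hle (Subgroup.mem_top x))
  have hj' : ∀ x, π x * π j = π j * π x := by
    intro x
    refine mul_left_cancel (a := π i) ?_
    calc π i * (π x * π j) = π x * π i * π j := by rw [hi', mul_assoc]
      _ = π (i * j) * π x := by rw [mul_assoc, ← map_mul, hall]
      _ = π i * (π j * π x) := by rw [map_mul, mul_assoc]
  have hci : i ∈ Subgroup.center K :=
    h.central_of_fixed (fun x => (hπ x i).mpr (hi' x)) h.om.gen (fun y hy => h.comm hy hi.1)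
  have hcj : j ∈ Subgroup.center K :=
    h.central_of_fixed (fun x => (hπ x j).mpr (hj' x)) (h.gen_conj g) hjY
  have hjY' : j ∈ Y := by
    have := hj.1
    rwa [Subgroup.mem_center_iff.mp hcj g⁻¹, inv_mul_cancel_right] at this
  exact Subgroup.mul_mem _ ⟨hi.1, hci⟩ ⟨hjY', hcj⟩

/-- Elements centralising `A` modulo `C` lie in `A`. -/
lemma mem_pCore_of_trivial {k : K}
    (hk : ∀ a ∈ Cfsg.pCore p K, k * a * k⁻¹ * a⁻¹ ∈ Y ⊓ Subgroup.center K) :
    k ∈ Cfsg.pCore p K := by
  let Ker : Subgroup K :=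
    { carrier := {k | ∀ a ∈ Cfsg.pCore p K, k * a * k⁻¹ * a⁻¹ ∈ Y ⊓ Subgroup.center K}
      one_mem' := fun a _ => by simp
      mul_mem' := fun {x y} hx hy a ha => by
        obtain ⟨c, hc⟩ : ∃ c, c = y * a * y⁻¹ * a⁻¹ := ⟨_, rfl⟩
        have hc' : c ∈ Y ⊓ Subgroup.center K := hc ▸ hy a ha
        have : x * y * a * (x * y)⁻¹ * a⁻¹ = x * c * x⁻¹ * (x * a * x⁻¹ * a⁻¹) := by rw [hc]; group
        rw [this, Subgroup.mem_center_iff.mp hc'.2 x, mul_inv_cancel_right]
        exact Subgroup.mul_mem _ hc' (hx a ha)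
      inv_mem' := fun {x} hx a ha => by
        obtain ⟨c, hc⟩ : ∃ c, c = x * a * x⁻¹ * a⁻¹ := ⟨_, rfl⟩
        have hc' : c ∈ Y ⊓ Subgroup.center K := hc ▸ hx a ha
        have : x⁻¹ * a * x⁻¹⁻¹ * a⁻¹ = x⁻¹ * c⁻¹ * x := by rw [hc]; group
        rw [this, Subgroup.mem_center_iff.mp (Subgroup.inv_mem _ hc').2 x⁻¹, inv_mul_cancel_right]
        exact Subgroup.inv_mem _ hc' }
  haveI : Ker.Normal := ⟨fun n hn x a ha => by
    have hb : x⁻¹ * a * x ∈ Cfsg.pCore p K := by
      simpa using (Cfsg.Agent.Cores.pCore_normal p K).conj_mem a ha x⁻¹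
    obtain ⟨c, hc⟩ : ∃ c, c = n * (x⁻¹ * a * x) * n⁻¹ * (x⁻¹ * a * x)⁻¹ := ⟨_, rfl⟩
    have hc' : c ∈ Y ⊓ Subgroup.center K := hc ▸ hn _ hb
    have : x * n * x⁻¹ * a * (x * n * x⁻¹)⁻¹ * a⁻¹ = x * c * x⁻¹ := by rw [hc]; group
    rw [this, Subgroup.mem_center_iff.mp hc'.2 x, mul_inv_cancel_right]
    exact hc'⟩
  have hp : IsPGroup p Ker := by
    rintro ⟨z, hz⟩
    obtain ⟨e, n, hndvd, hen⟩ := Nat.exists_eq_pow_mul_and_not_dvd (orderOf_pos z).ne' p (Fact.out : p.Prime).ne_one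
    refine ⟨e, Subtype.ext ?_⟩
    show z ^ p ^ e = 1
    set w := z ^ p ^ e with hw
    have hwn : w ^ n = 1 := by rw [hw, ← pow_mul, ← hen, pow_orderOf_eq_one]
    have hwK : w ∈ Ker := Ker.pow_mem hz _
    have hcent : w ∈ Subgroup.centralizer (Cfsg.pCore p K : Set K) := by
      rw [Subgroup.mem_centralizer_iff]
      intro a ha
      obtain ⟨c, hc⟩ : ∃ c, c = w * a * w⁻¹ * a⁻¹ := ⟨_, rfl⟩
      have hc' : c ∈ Y ⊓ Subgroup.center K := hc ▸ hwK a ha
      have hk : ∀ k : ℕ, w ^ k * a * (w ^ k)⁻¹ = c ^ k * a := by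
        intro k
        induction k with
        | zero => simp
        | succ k ih =>
          have hwc := Subgroup.mem_center_iff.mp ((Subgroup.pow_mem _ hc' k)).2 w
          calc w ^ (k + 1) * a * (w ^ (k + 1))⁻¹ = w * (w ^ k * a * (w ^ k)⁻¹) * w⁻¹ := by
                rw [pow_succ']; group
            _ = c ^ k * (w * a * w⁻¹) := by rw [ih, ← mul_assoc, hwc]; group
            _ = c ^ (k + 1) * a := by rw [pow_succ, hc]; group
      have hcn : c ^ n = 1 := by
        have := hk n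
        rw [hwn, one_mul, inv_one, mul_one] at this
        exact mul_eq_right.mp this.symm
      have hc1 : c = 1 := orderOf_eq_one_iff.mp (Nat.eq_one_of_dvd_coprimes
        ((Nat.Prime.coprime_iff_not_dvd Fact.out).mpr hndvd)
        (orderOf_dvd_of_pow_eq_one (h.elem.2 c hc'.1)) (orderOf_dvd_of_pow_eq_one hcn))
      rw [hc1, eq_comm, mul_inv_eq_one, mul_inv_eq_iff_eq_mul] at hc
      exact hc.symm
    obtain ⟨f, hf⟩ := Cfsg.Agent.Cores.isPGroup_pCore p K ⟨w, h.char hcent⟩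
    have hwf : w ^ p ^ f = 1 := congrArg Subtype.val hf
    exact orderOf_eq_one_iff.mp (Nat.eq_one_of_dvd_coprimes
      (Nat.Coprime.pow_left f ((Nat.Prime.coprime_iff_not_dvd Fact.out).mpr hndvd))
      (orderOf_dvd_of_pow_eq_one hwf) (orderOf_dvd_of_pow_eq_one hwn))
  exact Cfsg.Agent.Cores.le_pCore inferInstance hp hk

end LData

/-- The possible quotients. -/
def QuotType (p : ℕ) {H : Type*} [Group H] (Yb : Subgroup H) : Prop :=
  (∃ (F : Type) (_ : Field F) (_ : Fintype F), Fintype.card F = Nat.card Yb ∧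
      Nonempty (H ≃* Matrix.SpecialLinearGroup (Fin 2) F)) ∨
    (p = 2 ∧ ∃ (F : Type) (_ : Field F) (_ : Fintype F) (m : ℕ), Fintype.card F = 2 ^ (2 * m + 1) ∧
      Fintype.card F = Nat.card Yb ∧ Nonempty (H ≃* ↥(Lie.Sz F (2 ^ (m + 1))))) ∨
    (p = 2 ∧ Nat.card Yb = 2)

section concl

variable [Fact p.Prime] {H : Type*} [Group H] [Finite H] {Yb : Subgroup H}

omit [Finite H] in
lemma charP_of_card {F : Type} [Field F] [Fintype F] (hel : Cfsg.IsElementaryAbelian p Yb)
    (hne : Yb ≠ ⊥) (hc : Fintype.card F = Nat.card Yb) : CharP F p := by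
  obtain ⟨r, hr⟩ := CharP.exists F
  obtain ⟨n, hrp, hn⟩ := FiniteField.card F r
  obtain ⟨y, hy, hy1⟩ := (Subgroup.bot_or_exists_ne_one Yb).resolve_left hne
  have hd : orderOf y = p := orderOf_eq_prime (hel.2 y hy) hy1
  have : p ∣ r ^ (n : ℕ) := by
    rw [← hn, hc, ← hd]; exact Subgroup.orderOf_dvd_natCard _ hy
  have hpr : p = r :=
    (Nat.prime_dvd_prime_iff_eq Fact.out hrp).mp ((Fact.out : p.Prime).dvd_of_dvd_pow this)
  exact hpr ▸ hr

lemma fpf_of_quotType (hel : Cfsg.IsElementaryAbelian p Yb) (hne : Yb ≠ ⊥)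
    (hq : QuotType p Yb) {V : Type*} [AddCommGroup V] {ρ : H →* AddMonoid.End V}
    (hM : Halves Yb ρ) (hV : p = 2 → ∀ v : V, v + v = 0) {h : H}
    (hpr : ¬ p ∣ orderOf h) (h1 : h ≠ 1) {v : V} (hv : ρ h v = v) : v = 0 := by
  rcases hq with ⟨F, iF, iT, hc, ⟨e⟩⟩ | ⟨rfl, F, iF, iT, m, hF, hc, ⟨e⟩⟩ | ⟨rfl, h2⟩
  · haveI := charP_of_card hel hne hc
    obtain ⟨s, hs⟩ := exists_conj_uGrp p (Y := Yb.map e.toMonoidHom)
      (by rw [Subgroup.card_map_of_injective e.injective, hc])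
    obtain ⟨e', he'⟩ : ∃ e', e' = e.trans (MulAut.conj s) := ⟨_, rfl⟩
    have he'' : Yb.map e'.toMonoidHom = uGrp F := by
      rw [← hs, Subgroup.map_map, he']; rfl
    have hM' := hM.map e'
    rw [he''] at hM'
    refine fpf_sl2 p hM' (g := e' h) ?_ (v := v) (by simpa using hv)
    intro hp
    rw [← map_pow, map_eq_one_iff e' e'.injective] at hp
    apply h1
    exact orderOf_eq_one_iff.mp (Nat.eq_one_of_dvd_coprimes
      ((Nat.Prime.coprime_iff_not_dvd Fact.out).mpr hpr) (orderOf_dvd_of_pow_eq_one hp) dvd_rfl)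
  · have hodd : Odd (orderOf h) := Nat.odd_iff.mpr (Nat.two_dvd_ne_zero.mp hpr)
    rcases Nat.eq_zero_or_pos m with rfl | hm
    · exact fpf_card_two (by rw [← hc, hF]; norm_num) hM (hV rfl) hodd h1 hv
    obtain ⟨e', he'⟩ : ∃ e', e' = e.trans (Suzuki.lieEquiv hm hF).symm := ⟨_, rfl⟩
    have hel' : Cfsg.IsElementaryAbelian 2 (Yb.map e'.toMonoidHom) := by
      refine ⟨⟨⟨?_⟩⟩, ?_⟩
      · rintro ⟨_, a, ha, rfl⟩ ⟨_, b, hb, rfl⟩
        haveI := hel.1
        refine Subtype.ext ?_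
        show e' a * e' b = e' b * e' a
        rw [← map_mul, ← map_mul]
        exact congrArg e' (congrArg Subtype.val (mul_comm' (⟨a, ha⟩ : Yb) ⟨b, hb⟩))
      · rintro _ ⟨a, ha, rfl⟩
        rw [← map_pow, hel.2 a ha, map_one]
    obtain ⟨s, hs⟩ := exists_conj_zSub hm hF hel'
      (by rw [Subgroup.card_map_of_injective e'.injective, ← hc, hF])
    obtain ⟨e'', he''⟩ : ∃ e'', e'' = e'.trans (MulAut.conj s) := ⟨_, rfl⟩
    have he3 : Yb.map e''.toMonoidHom = Suzuki.zSub hF := by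
      rw [← hs, Subgroup.map_map, he'']; rfl
    have hM' := hM.map e''
    rw [he3] at hM'
    refine fpf_sz hm hF hM' (hV rfl) (h := e'' h) (by rw [MulEquiv.orderOf_eq]; exact hodd)
      (fun h' => h1 (e''.injective (h'.trans (map_one e'').symm))) (v := v) (by simpa using hv)
  · exact fpf_card_two h2 hM (hV rfl) (Nat.odd_iff.mpr (Nat.two_dvd_ne_zero.mp hpr)) h1 hv

lemma uniq_of_quotType (hY : OneMax Yb) (hel : Cfsg.IsElementaryAbelian p Yb) (hne : Yb ≠ ⊥)
    (hq : QuotType p Yb) (hcore : ∀ N : Subgroup H, N.Normal → IsPGroup p N → N = ⊥) :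
    Uniq p Yb := by
  rcases hq with ⟨F, iF, iT, hc, ⟨e⟩⟩ | ⟨rfl, F, iF, iT, m, hF, hc, ⟨e⟩⟩ | ⟨rfl, h2⟩
  · haveI := charP_of_card hel hne hc
    obtain ⟨s, hs⟩ := exists_conj_uGrp p (Y := Yb.map e.toMonoidHom)
      (by rw [Subgroup.card_map_of_injective e.injective, hc])
    obtain ⟨e', he'⟩ : ∃ e', e' = e.trans (MulAut.conj s) := ⟨_, rfl⟩
    have he'' : Yb.map e'.toMonoidHom = uGrp F := by
      rw [← hs, Subgroup.map_map, he']; rfl
    exact Uniq.of_map e' (he''.symm ▸ uniq_sl2 p)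
  · rcases Nat.eq_zero_or_pos m with rfl | hm
    · exact uniq_card_two hY (by rw [← hc, hF]; norm_num) hcore
    obtain ⟨e', he'⟩ : ∃ e', e' = e.trans (Suzuki.lieEquiv hm hF).symm := ⟨_, rfl⟩
    have hel' : Cfsg.IsElementaryAbelian 2 (Yb.map e'.toMonoidHom) := by
      refine ⟨⟨⟨?_⟩⟩, ?_⟩
      · rintro ⟨_, a, ha, rfl⟩ ⟨_, b, hb, rfl⟩
        haveI := hel.1
        refine Subtype.ext ?_
        show e' a * e' b = e' b * e' a
        rw [← map_mul, ← map_mul]
        exact congrArg e' (congrArg Subtype.val (mul_comm' (⟨a, ha⟩ : Yb) ⟨b, hb⟩))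
      · rintro _ ⟨a, ha, rfl⟩
        rw [← map_pow, hel.2 a ha, map_one]
    obtain ⟨s, hs⟩ := exists_conj_zSub hm hF hel'
      (by rw [Subgroup.card_map_of_injective e'.injective, ← hc, hF])
    obtain ⟨e'', he''⟩ : ∃ e'', e'' = e'.trans (MulAut.conj s) := ⟨_, rfl⟩
    have he3 : Yb.map e''.toMonoidHom = Suzuki.zSub hF := by
      rw [← hs, Subgroup.map_map, he'']; rfl
    refine Uniq.of_map e'' ?_
    rw [he3]
    exact uniq_sz hm hF (he3 ▸ hY.map e'')
  · exact uniq_card_two hY h2 hcore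

end concl

variable [Fact p.Prime]

/-- Elements of order not a power of `p` act without fixed points on `A / C`. -/
theorem LData.fixed_mem (h : LData p Y)
    (hq : QuotType p (Y.map (QuotientGroup.mk' (Cfsg.pCore p K)))) {k : K}
    (hk : ¬ ∃ e : ℕ, orderOf k = p ^ e) {a : K} (ha : a ∈ Cfsg.pCore p K)
    (hfix : k * a * k⁻¹ * a⁻¹ ∈ Y ⊓ Subgroup.center K) : a ∈ Y ⊓ Subgroup.center K := by
  classical
  set A := Cfsg.pCore p K with hA
  set C := Y ⊓ Subgroup.center K with hC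
  haveI hCn : C.Normal := ⟨fun n hn x => by
    rw [Subgroup.mem_center_iff.mp hn.2 x, mul_inv_cancel_right]; exact hn⟩
  let π := QuotientGroup.mk' C
  let W : Subgroup (K ⧸ C) := A.map π
  haveI hWn : W.Normal := (Cfsg.Agent.Cores.pCore_normal p K).map π (QuotientGroup.mk'_surjective _)
  letI : CommGroup W :=
    { (inferInstance : Group W) with
      mul_comm := by
        rintro ⟨_, x, hx, rfl⟩ ⟨_, y, hy, rfl⟩
        refine Subtype.ext ?_
        show π x * π y = π y * π x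
        have := (QuotientGroup.eq_one_iff _).mpr (h.commutator_mem hx hy)
        rw [← commutatorElement_def, ← QuotientGroup.mk'_apply, map_commutatorElement,
          commutatorElement_eq_one_iff_mul_comm] at this
        exact this }
  let ρ₀ : K →* AddMonoid.End (Additive W) :=
    { toFun := fun g => (MulAut.conjNormal (π g) : MulAut W).toMonoidHom.toAdditive
      map_one' := by ext x; simp; rfl
      map_mul' := fun g g' => by ext x; simp; rfl }
  have hρ₀ : ∀ g (w : W), ((Additive.toMul (ρ₀ g (Additive.ofMul w)) : W) : K ⧸ C) =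
      π g * (w : K ⧸ C) * (π g)⁻¹ := fun g w => MulAut.conjNormal_apply (π g) w
  have hρA : A ≤ ρ₀.ker := by
    intro x hx
    refine MonoidHom.mem_ker.mpr (AddMonoidHom.ext fun w => ?_)
    obtain ⟨w, rfl⟩ := Additive.ofMul.surjective w
    refine Additive.toMul.injective (Subtype.ext ((hρ₀ x w).trans ?_))
    show π x * (w : K ⧸ C) * (π x)⁻¹ = (w : K ⧸ C)
    obtain ⟨z, hz, hzw⟩ := w.2
    rw [← hzw, mul_inv_eq_iff_eq_mul]
    have := (QuotientGroup.eq_one_iff _).mpr (h.commutator_mem hx hz)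
    rw [← commutatorElement_def, ← QuotientGroup.mk'_apply, map_commutatorElement,
      commutatorElement_eq_one_iff_mul_comm] at this
    exact this
  let ρ : K ⧸ A →* AddMonoid.End (Additive W) := QuotientGroup.lift A ρ₀ hρA
  have key : ∀ (x : K) (z : K) (hz : z ∈ A),
      ρ (QuotientGroup.mk' A x) (Additive.ofMul ⟨π z, z, hz, rfl⟩) =
        Additive.ofMul ⟨π z, z, hz, rfl⟩ ↔ x * z * x⁻¹ * z⁻¹ ∈ C := by
    intro x z hz
    rw [← Additive.toMul.injective.eq_iff, Subtype.ext_iff, ← QuotientGroup.eq_one_iff]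
    show ((Additive.toMul (ρ₀ x (Additive.ofMul (⟨π z, z, hz, rfl⟩ : W))) : W) : K ⧸ C) = π z ↔ _
    rw [hρ₀, ← QuotientGroup.mk'_apply]
    simp only [map_mul, map_inv]
    exact mul_inv_eq_one.symm
  have hM : Halves (Y.map (QuotientGroup.mk' A)) ρ := by
    refine ⟨h.oneMax_map, ?_, ?_, ?_, ?_⟩
    · intro w hw
      obtain ⟨⟨_, z, hz, rfl⟩, rfl⟩ := Additive.ofMul.surjective w
      have := h.mem_of_all_fixed hz fun g => (key g z hz).mp (hw _)
      exact Additive.toMul.injective (Subtype.ext ((QuotientGroup.eq_one_iff _).mpr this))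
    · intro g hg w
      obtain ⟨g, rfl⟩ := QuotientGroup.mk'_surjective A g
      have hgN : g ∉ Subgroup.normalizer (Y : Set K) := fun hn =>
        hg (Subgroup.le_normalizer_map _ ⟨g, hn, rfl⟩)
      obtain ⟨⟨_, z, hz, rfl⟩, rfl⟩ := Additive.ofMul.surjective w
      obtain ⟨i, j, hi, hj, rfl⟩ := (h.decomp hgN).1 z hz
      have hjA : j ∈ A := by
        have := (Cfsg.Agent.Cores.pCore_normal p K).conj_mem _ hj.2 g
        simpa [mul_assoc] using this
      refine ⟨Additive.ofMul ⟨π i, i, hi.2, rfl⟩, Additive.ofMul ⟨π j, j, hjA, rfl⟩, ?_, ?_, ?_⟩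
      · rintro _ ⟨y, hy, rfl⟩
        refine (key y i hi.2).mpr ?_
        rw [h.comm hy hi.1, mul_inv_cancel_right, mul_inv_cancel]
        exact C.one_mem
      · rintro _ ⟨_, ⟨y, hy, rfl⟩, rfl⟩
        simp only [MulEquiv.coe_toMonoidHom, MulAut.conj_apply, ← map_inv, ← map_mul]
        refine (key (g * y * g⁻¹) j hjA).mpr ?_
        rw [show g * y * g⁻¹ * j * (g * y * g⁻¹)⁻¹ * j⁻¹ =
          g * ((y * (g⁻¹ * j * g)) * ((g⁻¹ * j * g) * y)⁻¹) * g⁻¹ by group, h.comm hy hj.1,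
          mul_inv_cancel, mul_one, mul_inv_cancel]
        exact C.one_mem
      · exact Additive.toMul.injective (Subtype.ext (map_mul π i j))
    · rintro w _ ⟨y, hy, rfl⟩ _ ⟨y', hy', rfl⟩
      obtain ⟨⟨_, z, hz, rfl⟩, rfl⟩ := Additive.ofMul.surjective w
      have hmem := h.comm_Y_pCore hy hz
      have heq : ρ (QuotientGroup.mk' A y) (Additive.ofMul ⟨π z, z, hz, rfl⟩) -
          Additive.ofMul ⟨π z, z, hz, rfl⟩ =
          Additive.ofMul (⟨π (y * z * y⁻¹ * z⁻¹), _, hmem.2, rfl⟩ : W) := by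
        rw [sub_eq_iff_eq_add]
        refine Additive.toMul.injective (Subtype.ext ?_)
        show ((Additive.toMul (ρ₀ y (Additive.ofMul (⟨π z, z, hz, rfl⟩ : W))) : W) : K ⧸ C) =
          π (y * z * y⁻¹ * z⁻¹) * π z
        rw [hρ₀]
        simp only [map_mul, map_inv, inv_mul_cancel_right]
      rw [heq]
      refine (key y' _ hmem.2).mpr ?_
      rw [h.comm hy' hmem.1, mul_inv_cancel_right, mul_inv_cancel]
      exact C.one_mem
    · rw [injective_iff_map_eq_one]
      intro x hx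
      obtain ⟨x, rfl⟩ := QuotientGroup.mk'_surjective A x
      refine (QuotientGroup.eq_one_iff _).mpr (h.mem_pCore_of_trivial fun z hz => (key x z hz).mp ?_)
      rw [hx]; rfl
  -- a suitable power of prime order
  obtain ⟨r, hr, hrp, hrd⟩ : ∃ r, r.Prime ∧ r ≠ p ∧ r ∣ orderOf k := by
    by_contra hcon
    push Not at hcon
    refine hk ⟨(orderOf k).primeFactorsList.length,
      Nat.eq_prime_pow_of_unique_prime_dvd (orderOf_pos k).ne' fun {d} hd hdvd => ?_⟩
    by_contra hne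
    exact hcon d hd hne hdvd
  obtain ⟨k', hk'⟩ : ∃ k', k' = k ^ (orderOf k / r) := ⟨_, rfl⟩
  have hord : orderOf k' = r := by
    rw [hk', orderOf_pow_of_dvd (Nat.div_ne_zero_iff.mpr ⟨hr.ne_zero, Nat.le_of_dvd (orderOf_pos k) hrd⟩)
      (Nat.div_dvd_of_dvd hrd), Nat.div_div_self hrd (orderOf_pos k).ne']
  obtain ⟨v, hv⟩ : ∃ v : Additive W, v = Additive.ofMul ⟨π a, a, ha, rfl⟩ := ⟨_, rfl⟩
  have hfix' : ρ (QuotientGroup.mk' A k') v = v := by
    have h1 : QuotientGroup.mk' A k ∈ stab ρ v := by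
      rw [mem_stab, hv]; exact (key k a ha).mpr hfix
    rw [hk', map_pow]
    exact (stab ρ v).pow_mem h1 _
  have hne : QuotientGroup.mk' A k' ≠ 1 := by
    intro h1
    obtain ⟨f, hf⟩ := Cfsg.Agent.Cores.isPGroup_pCore p K ⟨k', (QuotientGroup.eq_one_iff _).mp h1⟩
    have hd : r ∣ p ^ f := hord ▸ orderOf_dvd_of_pow_eq_one (congrArg Subtype.val hf)
    exact hrp ((Nat.prime_dvd_prime_iff_eq hr Fact.out).mp (hr.dvd_of_dvd_pow hd))
  have hpr : ¬ p ∣ orderOf (QuotientGroup.mk' A k') := fun hd =>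
    hrp ((Nat.prime_dvd_prime_iff_eq Fact.out hr).mp
      (hd.trans (hord ▸ orderOf_map_dvd _ _))).symm
  have htwo : p = 2 → ∀ v : Additive W, v + v = 0 := by
    rintro rfl w
    obtain ⟨⟨_, z, hz, rfl⟩, rfl⟩ := Additive.ofMul.surjective w
    refine Additive.toMul.injective (Subtype.ext ?_)
    show π z * π z = 1
    obtain ⟨g, hg⟩ := exists_notMem h.om
    obtain ⟨i, j, hi, hj, rfl⟩ := (h.decomp hg).1 z hz
    have h1 : i * i = 1 := by rw [← sq]; exact h.elem.2 i hi.1
    have h2 : j * j = 1 := by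
      have h2 := h.elem.2 _ hj.1
      rw [sq] at h2
      have : g⁻¹ * (j * j) * g = 1 := by rw [← h2]; group
      calc j * j = g * (g⁻¹ * (j * j) * g) * g⁻¹ := by group
        _ = 1 := by rw [this]; group
    have hjA : j ∈ A := by
      have := (Cfsg.Agent.Cores.pCore_normal 2 K).conj_mem _ hj.2 g
      simpa [mul_assoc] using this
    have hc : π i * π j = π j * π i := by
      have := (QuotientGroup.eq_one_iff _).mpr (h.commutator_mem hi.2 hjA)
      rw [← commutatorElement_def, ← QuotientGroup.mk'_apply, map_commutatorElement,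
        commutatorElement_eq_one_iff_mul_comm] at this
      exact this
    rw [map_mul]
    calc π i * π j * (π i * π j) = π i * (π j * π i) * π j := by simp only [mul_assoc]
      _ = (π i * π i) * (π j * π j) := by rw [← hc]; simp only [mul_assoc]
      _ = 1 := by rw [← map_mul, ← map_mul, h1, h2, map_one, mul_one]
  have hv0 : v = 0 := fpf_of_quotType h.elem_map h.map_ne_bot hq hM htwo hpr hne hfix'
  rw [hv] at hv0
  exact (QuotientGroup.eq_one_iff _).mp (congrArg (fun w : Additive W => ((w.toMul : W) : K ⧸ C)) hv0)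

/-- `Y A / A` is the only nontrivial elementary abelian normal subgroup of `N(Y)/A`. -/
theorem LData.uniq_quot (h : LData p Y)
    (hq : QuotType p (Y.map (QuotientGroup.mk' (Cfsg.pCore p K)))) :
    Uniq p (Y.map (QuotientGroup.mk' (Cfsg.pCore p K))) :=
  uniq_of_quotType h.oneMax_map h.elem_map h.map_ne_bot hq
    (Cfsg.Agent.Cores.pCore_eq_bot_iff.mp (Cfsg.Agent.Cores.pCore_quotient_self p K))

/-- The facts supplied by membership in the L-family. -/
theorem ldata_of_isInFrakL {G : Type*} [Group G] [Finite G] {M L : Subgroup G}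
    (hL : Cfsg.IsInFrakL p M L) :
    LData p ((Cfsg.largestPReducedOf p M).subgroupOf L) ∧
      QuotType p (((Cfsg.largestPReducedOf p M).subgroupOf L).map
        (QuotientGroup.mk' (Cfsg.pCore p ↥L))) := by
  obtain ⟨hYL, hA, hnorm, hmin, hchar, ⟨hlt, hmax⟩, htype⟩ := hL
  have hel := Cfsg.Agent.LargeSub.yOf_elementary (p := p) M
  set Y := Cfsg.largestPReducedOf p M with hY
  have hinj : Function.Injective (Subgroup.map L.subtype) := Subgroup.map_injective L.subtype_injective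
  have hN : Subgroup.normalizer (Y.subgroupOf L : Set L) =
      (Subgroup.normalizer (Y : Set G)).subgroupOf L := by
    ext x
    simp only [Subgroup.mem_normalizer_iff, Subgroup.mem_subgroupOf]
    constructor
    · intro h z
      constructor
      · intro hz
        simpa using (h ⟨z, hYL hz⟩).mp hz
      · intro hz
        have hzL : z ∈ L := by
          have h1 : (x : G) * z * (x : G)⁻¹ ∈ L := hYL hz
          have := L.mul_mem (L.mul_mem (L.inv_mem x.2) h1) x.2
          simpa [mul_assoc] using this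
        exact (h ⟨z, hzL⟩).mpr (by simpa using hz)
    · intro h z
      simpa using h (z : G)
  have hYeq : (Y ⊓ Cfsg.pCoreOf p L).subgroupOf L = Y.subgroupOf L ⊓ Cfsg.pCore p ↥L := by
    have h0 : (Cfsg.pCoreOf p L).subgroupOf L = Cfsg.pCore p ↥L :=
      Subgroup.comap_map_eq_self_of_injective L.subtype_injective _
    have h1 : (Y ⊓ Cfsg.pCoreOf p L).subgroupOf L = Y.subgroupOf L ⊓ (Cfsg.pCoreOf p L).subgroupOf L :=
      Subgroup.comap_inf _ _ _
    rw [h1, h0]
  have hd : LData p (Y.subgroupOf L) := by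
    refine ⟨?_, ?_, ?_, ⟨?_, ?_, hmin.1⟩, hchar⟩
    · exact (Cfsg.Agent.LargeSub.isElementaryAbelian_subgroupOf hYL).mpr hel
    · apply hinj
      rw [← hYeq]
      exact hA
    · rw [hN]
      intro x hx
      exact hnorm ⟨x, hx, rfl⟩
    · intro X hX hne
      rw [hN]
      intro x hx
      refine (hmax (X.map L.subtype) ?_ ?_ ⟨x, hx, rfl⟩).2
      · intro y hy
        exact ⟨⟨y, hYL hy⟩, hX (Subgroup.mem_subgroupOf.mpr hy), rfl⟩
      · refine lt_of_le_of_ne (Subgroup.map_subtype_le X) fun he => hne (hinj ?_)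
        rw [he, ← MonoidHom.range_eq_map, Subgroup.range_subtype]
    · rw [hN]
      intro ht
      exact hlt.ne (inf_eq_left.mpr (Subgroup.subgroupOf_eq_top.mp ht))
  refine ⟨hd, ?_⟩
  have hcard : Nat.card ((Y.subgroupOf L).map (QuotientGroup.mk' (Cfsg.pCore p ↥L))) =
      (Y ⊓ Cfsg.pCoreOf p L).relIndex Y := by
    rw [← Subgroup.relIndex_subgroupOf hYL, hYeq, Subgroup.inf_relIndex_left,
      ← Subgroup.relIndex_ker, QuotientGroup.ker_mk']
  rcases htype with ⟨F, iF, iT, hc, hiso⟩ | ⟨h2, F, iF, iT, m, hF, hc, hiso⟩ | ⟨h2, r, hr, hr2, ⟨e⟩⟩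
  · exact Or.inl ⟨F, iF, iT, hc.trans hcard.symm, hiso⟩
  · exact Or.inr (Or.inl ⟨h2, F, iF, iT, m, hF, hc.trans hcard.symm, hiso⟩)
  · refine Or.inr (Or.inr ⟨h2, ?_⟩)
    subst h2
    have hp : IsPGroup 2 ((Y.subgroupOf L).map (QuotientGroup.mk' (Cfsg.pCore 2 ↥L))) :=
      fun y => ⟨1, Subtype.ext (by simpa using hd.elem_map.2 _ y.2)⟩
    obtain ⟨n, hn⟩ := IsPGroup.iff_card.mp hp
    have hdvd : 2 ^ n ∣ 2 * r := by
      rw [← DihedralGroup.nat_card (n := r), ← Nat.card_congr e.toEquiv, ← hn]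
      exact Subgroup.card_subgroup_dvd_card _
    have hn1 : n ≠ 0 := by
      rintro rfl
      rw [pow_zero] at hn
      exact hd.map_ne_bot (Subgroup.eq_bot_of_card_eq _ hn)
    have : n < 2 := by
      by_contra hlt2
      push Not at hlt2
      have h4 : 2 * 2 ∣ 2 * r := (pow_dvd_pow 2 hlt2 : 2 ^ 2 ∣ 2 ^ n).trans hdvd |>.trans (dvd_refl _)
      have := (Nat.mul_dvd_mul_iff_left (by norm_num : 0 < 2)).mp h4
      exact hr2 ((Nat.prime_dvd_prime_iff_eq Nat.prime_two hr).mp this).symm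
    rw [hn, show n = 1 by omega, pow_one]

end Cfsg.Agent.FrakLModule
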