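import Cfsg.Agent.Lib.FrakLModule.Models

/-!
# The Suzuki groups as quotients of members of the L-family

`exists_conj_zSub`, `fpf_sz`, `uniq_sz`, `sz_inverted`.
-/

set_option autoImplicit false
set_option linter.style.haveILetI false

namespace Cfsg.Agent.FrakLModule

open Cfsg Cfsg.Agent.Suzuki

variable {F : Type*} [Field F] [Fintype F] {m : ℕ}
variable (hm : 1 ≤ m) (hF : Fintype.card F = 2 ^ (2 * m + 1))

include hm hF in
/-- Every involution is conjugate into the centre of the root group. -/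
lemma involution_conj {t : Sz F m} (h2 : t * t = 1) (h1 : t ≠ 1) :
    ∃ s : Sz F m, s⁻¹ * t * s ∈ zSub hF := by
  have hE : Cfsg.IsElementaryAbelian 2 (Subgroup.zpowers t) := by
    refine ⟨⟨⟨?_⟩⟩, ?_⟩
    · rintro ⟨_, k, rfl⟩ ⟨_, l, rfl⟩
      exact Subtype.ext (by show t ^ k * t ^ l = t ^ l * t ^ k; rw [← zpow_add, ← zpow_add, add_comm])
    · rintro _ ⟨k, rfl⟩
      rw [← zpow_natCast, ← zpow_mul, mul_comm, zpow_mul, zpow_natCast, sq, h2, one_zpow]
  obtain ⟨s, hs⟩ := elementary_le_zSub hm hF hE (by simpa using h1)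
  exact ⟨s, hs t (Subgroup.mem_zpowers t)⟩

include hm hF in
/-- An element of odd order is inverted by an involution. -/
lemma sz_inverted {h : Sz F m} (hodd : Odd (orderOf h)) (h1 : h ≠ 1) :
    ∃ t : Sz F m, t * t = 1 ∧ t ≠ 1 ∧ t * h * t⁻¹ = h⁻¹ := by
  classical
  haveI := charTwo hF
  rcases mem_cases hm hF h1 with ⟨hu, -, -⟩ | ⟨-, ⟨x, c, hc, -, rfl⟩, -⟩ | ⟨-, -, hf⟩
  · exfalso
    have hd := orderOf_dvd_of_conjSet_uSub hF hu
    rw [← pow_mul] at hd
    exact h1 (orderOf_eq_one_iff.mp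
      (Nat.eq_one_of_dvd_coprimes (hodd.coprime_two_right.pow_right _) dvd_rfl hd))
  · obtain ⟨k, rfl⟩ := (mem_dSub hF).mp hc
    have hw := wSz_mul_self hF
    have hw1 : wSz hF ≠ 1 := by
      intro he
      have := wSz_smul_infinity hF
      rw [he, one_smul, ← pt_zero_zero (m := m)] at this
      exact pt_ne_infinity 0 0 this.symm
    refine ⟨x * wSz hF * x⁻¹, ?_, fun he => hw1 (conj_eq_one_iff.mp he), ?_⟩
    · rw [show x * wSz hF * x⁻¹ * (x * wSz hF * x⁻¹) = x * (wSz hF * wSz hF) * x⁻¹ by group, hw]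
      group
    · calc x * wSz hF * x⁻¹ * (x * dSz hF k * x⁻¹) * (x * wSz hF * x⁻¹)⁻¹
          = x * (wSz hF * dSz hF k) * (wSz hF)⁻¹ * x⁻¹ := by group
        _ = (x * dSz hF k * x⁻¹)⁻¹ := by
          rw [wSz_conj_dSz, ← dSz_inv]; group
  · -- a fixed-point-free element: an involution of the normaliser of its torus
    haveI : Fact (Nat.Prime 2) := ⟨Nat.prime_two⟩
    have hd := (torus_data hm hF hf).2
    obtain ⟨⟨t, htN⟩, ht⟩ := exists_prime_orderOf_dvd_card'
      (G := Subgroup.normalizer (torus h : Set (Sz F m))) 2 (by rw [hd]; exact dvd_mul_of_dvd_left (by norm_num) _)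
    rw [Subgroup.orderOf_mk] at ht
    have ht2 : t * t = 1 := by rw [← sq, ← ht]; exact pow_orderOf_eq_one t
    have ht1 : t ≠ 1 := fun he => by simp [he] at ht
    refine ⟨t, ht2, ht1, ?_⟩
    haveI := cyclic_centralizer_of_fpf hm hF hf
    letI := IsCyclic.commGroup (α := Subgroup.centralizer {h})
    have hmem : t * h * t⁻¹ ∈ torus h := (Subgroup.mem_normalizer_iff.mp htN h).mp (self_mem_torus h)
    have hcomm : Commute h (t * h * t⁻¹) := (Subgroup.mem_centralizer_singleton_iff.mp hmem).symm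
    obtain ⟨z, hz⟩ : ∃ z, z = h * (t * h * t⁻¹) := ⟨_, rfl⟩
    have hzt : t * z = z * t := by
      have hti : t⁻¹ = t := inv_eq_of_mul_eq_one_right ht2
      calc t * z = (t * h * t⁻¹) * (t * t * h * t⁻¹) := by rw [hz]; group
        _ = (t * h * t⁻¹) * h * t := by rw [ht2, one_mul, hti]; group
        _ = z * t := by rw [← hcomm.eq, hz]
    by_contra hne
    have hz1 : z ≠ 1 := fun he => hne (eq_inv_of_mul_eq_one_right (hz ▸ he))
    have hzmem : z ∈ Subgroup.centralizer {h} := by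
      rw [hz]; exact Subgroup.mul_mem _ (self_mem_torus h) hmem
    have htc : t ∈ Subgroup.centralizer {z} := Subgroup.mem_centralizer_singleton_iff.mpr hzt
    rw [centralizer_eq_of_mem hm hF hf hzmem hz1, Subgroup.mem_centralizer_singleton_iff] at htc
    apply hne
    rw [htc, mul_inv_cancel_right]
    -- `t` commutes with `h`, so it is fixed-point-free of even order
    have := orderOf_dvd_of_fpf hm hF (fpf_of_commute hm hF hf ht1 (htc.symm))
    rw [ht] at this
    exfalso
    have h2 : 2 ∣ (2 ^ (2 * m + 1)) ^ 2 := dvd_pow two_dvd_q two_ne_zero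
    omega

include hm hF in
theorem fpf_sz {V : Type*} [AddCommGroup V] {ρ : Sz F m →* AddMonoid.End V}
    (hM : Halves (zSub hF) ρ) (htwo : ∀ v : V, v + v = 0) {h : Sz F m} (hodd : Odd (orderOf h))
    (h1 : h ≠ 1) {v : V} (hv : ρ h v = v) : v = 0 := by
  haveI := charTwo hF
  obtain ⟨t, ht2, ht1, hinv⟩ := sz_inverted hm hF hodd h1
  obtain ⟨s, hs⟩ := involution_conj hm hF ht2 ht1
  refine hM.eq_zero_of_inverted htwo (fun y hy => ?_) hodd h1 hs ht1 hinv hv
  obtain ⟨b, rfl⟩ := hy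
  rw [tSz_mul, tSz_eq_one_iff]
  constructor <;> simp <;> grind

include hm hF in
theorem exists_conj_zSub {Y : Subgroup (Sz F m)} (hY : Cfsg.IsElementaryAbelian 2 Y)
    (hc : Nat.card Y = 2 ^ (2 * m + 1)) :
    ∃ s : Sz F m, Y.map (MulAut.conj s).toMonoidHom = zSub hF := by
  have hne : Y ≠ ⊥ := fun h => by
    rw [h, Subgroup.card_bot] at hc
    exact absurd hc (Nat.one_lt_two_pow (by omega)).ne
  obtain ⟨s, hs⟩ := elementary_le_zSub hm hF hY hne
  refine ⟨s⁻¹, Subgroup.eq_of_le_of_card_ge ?_ ?_⟩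
  · rintro _ ⟨y, hy, rfl⟩
    simpa using hs y hy
  · rw [card_zSub, Subgroup.card_map_of_injective (MulAut.conj s⁻¹).injective, hc]

include hm hF in
theorem uniq_sz (hY : OneMax (zSub hF)) : Uniq 2 (zSub hF) := by
  haveI := charTwo hF
  have hN : Subgroup.normalizer (zSub hF : Set (Sz F m)) =
      MulAction.stabilizer (Sz F m) (suzukiPointInfinity F) := by
    have hle : MulAction.stabilizer (Sz F m) (suzukiPointInfinity F) ≤
        Subgroup.normalizer (zSub hF : Set (Sz F m)) := by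
      intro g hg
      rw [Subgroup.mem_normalizer_iff]
      intro z
      constructor
      · rintro ⟨b, rfl⟩
        obtain ⟨μ, hμ⟩ := zSub_conj_stab hm hF (MulAction.mem_stabilizer_iff.mp hg)
        exact ⟨μ * b, hμ b⟩
      · rintro ⟨b, hb⟩
        obtain ⟨μ, hμ⟩ := zSub_conj_stab hm hF
          (MulAction.mem_stabilizer_iff.mp (inv_mem hg))
        refine ⟨μ * b, ?_⟩
        rw [← hμ b, ← hb]; group
    by_contra hne
    exact hY.proper ((stabilizer_maximal hm hF).1.2 _ (lt_of_le_of_ne hle (Ne.symm hne)))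
  intro E hEN hNE hea hne
  rw [hN] at hEN hNE
  have hle : E ≤ zSub hF := by
    intro e he
    obtain ⟨a, b, k, rfl⟩ := exists_tSz_dSz_of_fix hm hF (MulAction.mem_stabilizer_iff.mp (hEN he))
    have h2 := hea.2 _ he
    rw [sq, tSz_dSz_mul] at h2
    have hkk : k * k = 1 := by
      have hmem : dSz hF (k * k) ∈ uSub hF := by
        rw [eq_inv_of_mul_eq_one_right h2]; exact inv_mem (tSz_mem_uSub hF _ _)
      have hd : orderOf (dSz hF (k * k)) ∣ (2 ^ (2 * m + 1)) ^ 2 :=
        card_uSub hF ▸ Subgroup.orderOf_dvd_natCard _ hmem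
      have hd' : orderOf (dSz hF (k * k)) ∣ 2 ^ (2 * m + 1) - 1 :=
        card_dSub hF ▸ Subgroup.orderOf_dvd_natCard _ ((mem_dSub hF).mpr ⟨_, rfl⟩)
      have hcop : Nat.Coprime ((2 ^ (2 * m + 1)) ^ 2) (2 ^ (2 * m + 1) - 1) := by
        refine Nat.Coprime.pow_left 2 ?_
        exact (Nat.coprime_self_sub_right Nat.one_le_two_pow).mpr (Nat.coprime_one_right _)
      exact dSz_inj hF ((orderOf_eq_one_iff.mp
        (Nat.eq_one_of_dvd_coprimes hcop hd hd')).trans (dSz_one hF).symm)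
    have hk : k = 1 := by
      apply Units.ext
      have h := congrArg Units.val hkk
      rw [Units.val_mul, Units.val_one] at h
      have : ((k : F) - 1) * ((k : F) - 1) = 0 := by grind
      rw [Units.val_one]
      exact sub_eq_zero.mp (mul_self_eq_zero.mp this)
    subst hk
    rw [mul_one, dSz_one, mul_one, tSz_eq_one_iff] at h2
    have ha : th m a * a = 0 := by
      have := h2.2
      simp at this
      grind
    rw [dSz_one, mul_one]
    rcases mul_eq_zero.mp ha with h | h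
    · exact ⟨b, by rw [th_eq_zero.mp h]⟩
    · exact ⟨b, by rw [h]⟩
  refine le_antisymm hle ?_
  obtain ⟨e, he, he1⟩ := (Subgroup.bot_or_exists_ne_one E).resolve_left hne
  obtain ⟨b₀, rfl⟩ := hle he
  have hb₀ : b₀ ≠ 0 := fun h => he1 (by rw [h, tSz_zero])
  rintro _ ⟨b, rfl⟩
  rcases eq_or_ne b 0 with rfl | hb
  · rw [tSz_zero]; exact E.one_mem
  obtain ⟨k, hk⟩ := (thSucc_bijective hF).2 (b / b₀)
  have hk0 : k ≠ 0 := fun h => div_ne_zero hb hb₀ (by rw [← hk, h]; simp)
  have := (Subgroup.mem_normalizer_iff.mp (hNE (x := dSz hF (Units.mk0 k hk0))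
    (MulAction.mem_stabilizer_iff.mpr (dSz_smul_infinity hF _))) _).mp he
  rw [zSub_conj_dSz] at this
  simp only [Units.val_mk0] at this hk
  rwa [hk, div_mul_cancel₀ b hb₀] at this

end Cfsg.Agent.FrakLModule
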